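import Mathlib

/-!
Four-fold transitive groups in which a four-point stabilizer has odd order: involutions and
regular four-groups.
-/

set_option autoImplicit false
set_option linter.unusedSectionVars false
set_option linter.style.haveILetI false

namespace CfsgLib.HallFour

open Equiv

variable {α : Type*} [Fintype α] [DecidableEq α]

/-- Four distinct points. -/
def D4 (a b c d : α) : Prop := a ≠ b ∧ a ≠ c ∧ a ≠ d ∧ b ≠ c ∧ b ≠ d ∧ c ≠ d

/-- The standing hypothesis. -/
structure Hyp (G : Subgroup (Perm α)) : Prop where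
  tr : ∀ a b c d a' b' c' d' : α, D4 a b c d → D4 a' b' c' d' →
    ∃ g ∈ G, g a = a' ∧ g b = b' ∧ g c = c' ∧ g d = d'
  odd : ∀ g ∈ G, ∀ a b c d : α, D4 a b c d → g a = a → g b = b → g c = c → g d = d →
    Odd (orderOf g)

/-- The fixed points of a permutation. -/
def fx (u : Perm α) : Finset α := Finset.univ.filter fun x => u x = x

@[simp] theorem mem_fx {u : Perm α} {x : α} : x ∈ fx u ↔ u x = x := by simp [fx]

theorem fx_conj (g u : Perm α) : fx (g * u * g⁻¹) = (fx u).image g := by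
  ext x
  simp only [mem_fx, Finset.mem_image, Perm.mul_apply]
  constructor
  · intro h
    exact ⟨g⁻¹ x, g.injective (by rw [h]; simp), by simp⟩
  · rintro ⟨y, hy, rfl⟩
    simp [hy]

theorem card_fx_conj (g u : Perm α) : (fx (g * u * g⁻¹)).card = (fx u).card := by
  rw [fx_conj, Finset.card_image_of_injective _ g.injective]

theorem exists_four {s : Finset α} (h : 4 ≤ s.card) :
    ∃ a ∈ s, ∃ b ∈ s, ∃ c ∈ s, ∃ d ∈ s, D4 a b c d := by
  obtain ⟨e⟩ := Function.Embedding.nonempty_of_card_le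
    (α := Fin 4) (β := ↥s) (by simpa using h)
  have key : ∀ i j : Fin 4, i ≠ j → (e i : α) ≠ e j := fun i j hij hh =>
    hij (e.injective (Subtype.ext hh))
  exact ⟨e 0, (e 0).2, e 1, (e 1).2, e 2, (e 2).2, e 3, (e 3).2, key 0 1 (by decide),
    key 0 2 (by decide), key 0 3 (by decide), key 1 2 (by decide), key 1 3 (by decide),
    key 2 3 (by decide)⟩

theorem fx_parity {u : Perm α} (hu : u * u = 1) :
    (fx u).card % 2 = Fintype.card α % 2 := by
  haveI : Fact (Nat.Prime 2) := ⟨Nat.prime_two⟩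
  have h := Equiv.Perm.card_compl_support_modEq (p := 2) (n := 1) (σ := u)
    (by rw [pow_one, sq, hu])
  have h' : fx u = u.supportᶜ := by ext x; simp
  rw [h']; exact h

theorem apply_apply {u : Perm α} (hu : u * u = 1) (x : α) : u (u x) = x := by
  rw [← Perm.mul_apply, hu, Perm.one_apply]

theorem inv_eq {u : Perm α} (hu : u * u = 1) : u⁻¹ = u := inv_eq_of_mul_eq_one_right hu

theorem comm_apply {u v : Perm α} (h : u * v = v * u) (x : α) : u (v x) = v (u x) := by
  rw [← Perm.mul_apply, h, Perm.mul_apply]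

namespace Hyp

variable {G : Subgroup (Perm α)} (H : Hyp G)
include H

/-- An element of order two fixing four points is trivial. -/
theorem fix4 {u : Perm α} (hG : u ∈ G) (hu : u * u = 1) {a b c d : α} (hd : D4 a b c d)
    (ha : u a = a) (hb : u b = b) (hc : u c = c) (hd' : u d = d) : u = 1 := by
  obtain ⟨k, hk⟩ := H.odd u hG a b c d hd ha hb hc hd'
  have h := pow_orderOf_eq_one u
  rwa [hk, pow_succ, pow_mul, sq, hu, one_pow, one_mul] at h

theorem card_fx_le {u : Perm α} (hG : u ∈ G) (hu : u * u = 1) (hne : u ≠ 1) :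
    (fx u).card ≤ 3 := by
  by_contra h
  obtain ⟨a, ha, b, hb, c, hc, d, hd, h4⟩ := exists_four (s := fx u) (by omega)
  exact hne (H.fix4 hG hu h4 (mem_fx.1 ha) (mem_fx.1 hb) (mem_fx.1 hc) (mem_fx.1 hd))

/-- The part of `2`-power order of an element whose square fixes four points. -/
theorem twoPart {g : Perm α} (hg : g ∈ G) {a b c d : α} (hd : D4 a b c d)
    (ha : g (g a) = a) (hb : g (g b) = b) (hc : g (g c) = c) (hd' : g (g d) = d) :
    ∃ s ∈ G, s * s = 1 ∧ (∃ n : ℕ, s = g ^ n) ∧ ∀ x, g (g x) = x → s x = g x := by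
  obtain ⟨k, hk⟩ := H.odd (g * g) (mul_mem hg hg) a b c d hd ha hb hc hd'
  refine ⟨g * (g * g) ^ k, mul_mem hg (pow_mem (mul_mem hg hg) k), ?_, ⟨1 + 2 * k, ?_⟩,
    fun x hx => ?_⟩
  · have h := pow_orderOf_eq_one (g * g)
    rw [hk] at h
    have hc : Commute g ((g * g) ^ k) := ((Commute.refl g).mul_right (Commute.refl g)).pow_right k
    calc g * (g * g) ^ k * (g * (g * g) ^ k)
        = g * ((g * g) ^ k * g) * (g * g) ^ k := by group
      _ = g * g * ((g * g) ^ k * (g * g) ^ k) := by rw [← hc.eq]; group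
      _ = (g * g) ^ (2 * k + 1) := by rw [← pow_add, pow_succ', two_mul]
      _ = 1 := h
  · rw [pow_add, pow_one, pow_mul, sq]
  · rw [Perm.mul_apply, Perm.pow_apply_eq_self_of_apply_eq_self hx k]

/-- In a dihedral group, the central involution. -/
theorem commPart {u v : Perm α} (hu : u ∈ G) (hv : v ∈ G) (huu : u * u = 1) (hvv : v * v = 1)
    {a b c d : α} (hd : D4 a b c d) (ha : u (v (u (v a))) = a) (hb : u (v (u (v b))) = b)
    (hc : u (v (u (v c))) = c) (hd' : u (v (u (v d))) = d) :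
    ∃ z ∈ G, z * z = 1 ∧ u * z = z * u ∧ ∀ x, u (v (u (v x))) = x → z x = u (v x) := by
  obtain ⟨z, hz, hzz, ⟨n, hn⟩, hzx⟩ := H.twoPart (mul_mem hu hv) hd (g := u * v)
    (by simpa using ha) (by simpa using hb) (by simpa using hc) (by simpa using hd')
  refine ⟨z, hz, hzz, ?_, fun x hx => by rw [hzx x (by simpa using hx)]; rfl⟩
  have h1 : u * (u * v) * u⁻¹ = (u * v)⁻¹ := by
    rw [mul_inv_rev, inv_eq huu, inv_eq hvv, ← mul_assoc, huu, one_mul]
  have h2 : u * z * u⁻¹ = z := by
    rw [hn, ← conj_pow, h1, inv_pow, ← hn, inv_eq hzz]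
  exact mul_inv_eq_iff_eq_mul.1 h2

/-- Two involutions agreeing on four points are conjugate fixing these. -/
theorem align {u u' : Perm α} (hu : u ∈ G) (hu' : u' ∈ G) (huu : u * u = 1) (huu' : u' * u' = 1)
    {a b c d : α} (hd : D4 a b c d) (ha : u (u' a) = a) (hb : u (u' b) = b)
    (hc : u (u' c) = c) (hd' : u (u' d) = d) :
    ∃ h ∈ G, h a = a ∧ h b = b ∧ h c = c ∧ h d = d ∧ h * u * h⁻¹ = u' ∧
      ∀ w, w * u = u * w → w * u' = u' * w → w * h = h * w := by
  obtain ⟨k, hk⟩ := H.odd (u * u') (mul_mem hu hu') a b c d hd ha hb hc hd'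
  refine ⟨(u * u') ^ k, pow_mem (mul_mem hu hu') k, Perm.pow_apply_eq_self_of_apply_eq_self ha k,
    Perm.pow_apply_eq_self_of_apply_eq_self hb k, Perm.pow_apply_eq_self_of_apply_eq_self hc k,
    Perm.pow_apply_eq_self_of_apply_eq_self hd' k, ?_, fun w h1 h2 => ?_⟩
  · have h := pow_orderOf_eq_one (u * u')
    rw [hk] at h
    have h1 : u * (u * u') * u⁻¹ = (u * u')⁻¹ := by
      rw [mul_inv_rev, inv_eq huu, inv_eq huu', ← mul_assoc, huu, one_mul]
    have h2 : u * (u * u') ^ k * u⁻¹ = ((u * u') ^ k)⁻¹ := by rw [← conj_pow, h1, inv_pow]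
    have h3 : (u * u') ^ (2 * k) = (u * u')⁻¹ :=
      eq_inv_of_mul_eq_one_left (by rw [← pow_succ, h])
    calc (u * u') ^ k * u * ((u * u') ^ k)⁻¹
        = (u * u') ^ k * u * (u * (u * u') ^ k * u⁻¹) := by rw [h2]
      _ = (u * u') ^ k * (u * u) * (u * u') ^ k * u⁻¹ := by group
      _ = (u * u') ^ (2 * k) * u⁻¹ := by rw [huu, mul_one, ← pow_add, two_mul]
      _ = u' := by rw [h3, mul_inv_rev, inv_eq huu, inv_eq huu', mul_assoc, huu, mul_one]
  · exact ((Commute.mul_right (h1 : Commute w u) (h2 : Commute w u')).pow_right k).eq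

end Hyp

/-- A four-group with a regular orbit. -/
structure Four (G : Subgroup (Perm α)) (u v : Perm α) (p : α) : Prop where
  hu : u ∈ G
  hv : v ∈ G
  uu : u * u = 1
  vv : v * v = 1
  comm : u * v = v * u
  d4 : D4 p (u p) (v p) (u (v p))

theorem mul_involutive {u v : Perm α} (uu : u * u = 1) (vv : v * v = 1) (comm : u * v = v * u) :
    u * v * (u * v) = 1 := by
  calc u * v * (u * v) = u * (v * u) * v := by group
    _ = u * u * (v * v) := by rw [← comm]; group
    _ = 1 := by rw [uu, vv, one_mul]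

theorem Four.rot {G : Subgroup (Perm α)} {u v : Perm α} {p : α} (F : Four G u v p) :
    Four G v (u * v) p := by
  obtain ⟨h1, h2, h3, h4, h5, h6⟩ := F.d4
  refine ⟨F.hv, mul_mem F.hu F.hv, F.vv, mul_involutive F.uu F.vv F.comm,
    by rw [← mul_assoc, ← F.comm], ?_⟩
  have e : v ((u * v) p) = u p := by
    rw [Perm.mul_apply, comm_apply F.comm, apply_apply F.vv]
  rw [e, Perm.mul_apply]
  exact ⟨h2, h3, h1, h6, h4.symm, h5.symm⟩

theorem Four.of_not_fixed {G : Subgroup (Perm α)} {u v : Perm α} (hu : u ∈ G) (hv : v ∈ G)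
    (uu : u * u = 1) (vv : v * v = 1) (comm : u * v = v * u) {p : α} (h1 : p ∉ fx u)
    (h2 : p ∉ fx v) (h3 : p ∉ fx (u * v)) : Four G u v p := by
  rw [mem_fx] at h1 h2 h3
  rw [Perm.mul_apply] at h3
  refine ⟨hu, hv, uu, vv, comm, Ne.symm h1, Ne.symm h2, Ne.symm h3, fun h => h3 ?_, fun h => h2 ?_,
    fun h => h1 ?_⟩
  · rw [← h, apply_apply uu]
  · exact u.injective h.symm
  · apply v.injective
    rw [← comm_apply comm]; exact h.symm

namespace Hyp

variable {G : Subgroup (Perm α)} (H : Hyp G)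
include H

/-- All regular four-groups are conjugate. -/
theorem conj_four {u v u' v' : Perm α} {p p' : α} (F : Four G u v p) (F' : Four G u' v' p') :
    ∃ g ∈ G, g * u * g⁻¹ = u' ∧ g * v * g⁻¹ = v' ∧ g p = p' := by
  obtain ⟨g, hg, g1, g2, g3, g4⟩ := H.tr _ _ _ _ _ _ _ _ F.d4 F'.d4
  have hconj : ∀ w : Perm α, ∀ x, (g * w * g⁻¹) (g x) = g (w x) := fun w x => by simp
  set u1 := g * u * g⁻¹ with hu1
  set v1 := g * v * g⁻¹ with hv1
  have u1a : u1 p' = u' p' := by rw [← g1, hconj, g2, g1]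
  have u1b : u1 (u' p') = p' := by rw [← g2, hconj, apply_apply F.uu, g1]
  have u1c : u1 (v' p') = u' (v' p') := by rw [← g3, hconj, g4, g3]
  have u1d : u1 (u' (v' p')) = v' p' := by rw [← g4, hconj, apply_apply F.uu, g3]
  have hu1G : u1 ∈ G := mul_mem (mul_mem hg F.hu) (inv_mem hg)
  have hv1G : v1 ∈ G := mul_mem (mul_mem hg F.hv) (inv_mem hg)
  have u1u : u1 * u1 = 1 := by rw [hu1, conj_mul, F.uu, mul_one, mul_inv_cancel]
  have v1v : v1 * v1 = 1 := by rw [hv1, conj_mul, F.vv, mul_one, mul_inv_cancel]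
  have u1v : u1 * v1 = v1 * u1 := by rw [hu1, hv1, conj_mul, conj_mul, F.comm]
  obtain ⟨h, hh, ha, hb, hc, hd, hhu, -⟩ := H.align hu1G F'.hu u1u F'.uu F'.d4 u1b
    (by rw [apply_apply F'.uu]; exact u1a) u1d (by rw [apply_apply F'.uu]; exact u1c)
  set v2 := h * v1 * h⁻¹ with hv2
  have hconj2 : ∀ x, v2 (h x) = h (v1 x) := fun x => by simp [hv2]
  have e1 : v' (v' p') = p' := apply_apply F'.vv _
  have e2 : v' (u' p') = u' (v' p') := (comm_apply F'.comm _).symm
  have e3 : v' (u' (v' p')) = u' p' := by rw [← comm_apply F'.comm, e1]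
  have v1a : v1 p' = v' p' := by rw [← g1, hconj, g3, g1]
  have v1b : v1 (u' p') = u' (v' p') := by
    rw [← g2, hconj, ← comm_apply F.comm, g4]
  have v1c : v1 (v' p') = p' := by rw [← g3, hconj, apply_apply F.vv, g1]
  have v1d : v1 (u' (v' p')) = u' p' := by
    rw [← g4, hconj, ← comm_apply F.comm, apply_apply F.vv, g2]
  have v2a : v2 p' = v' p' := by conv_lhs => rw [← ha, hconj2, v1a, hc]
  have v2b : v2 (u' p') = u' (v' p') := by conv_lhs => rw [← hb, hconj2, v1b, hd]
  have v2c : v2 (v' p') = p' := by conv_lhs => rw [← hc, hconj2, v1c, ha]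
  have v2d : v2 (u' (v' p')) = u' p' := by conv_lhs => rw [← hd, hconj2, v1d, hb]
  have hv2G : v2 ∈ G := mul_mem (mul_mem hh hv1G) (inv_mem hh)
  have v2v : v2 * v2 = 1 := by rw [hv2, conj_mul, v1v, mul_one, mul_inv_cancel]
  have u2v : u' * v2 = v2 * u' := by
    calc u' * v2 = h * (u1 * v1) * h⁻¹ := by rw [hv2, ← hhu]; group
      _ = h * (v1 * u1) * h⁻¹ := by rw [u1v]
      _ = v2 * u' := by rw [hv2, ← hhu]; group
  obtain ⟨k, hk, ka, -, -, -, hkv, hkc⟩ := H.align hv2G F'.hv v2v F'.vv F'.d4 v2c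
    (by rw [e2]; exact v2d) (by rw [e1]; exact v2a) (by rw [e3]; exact v2b)
  have hku : k * u' * k⁻¹ = u' := mul_inv_eq_iff_eq_mul.2 (hkc u' u2v F'.comm).symm
  refine ⟨k * h * g, mul_mem (mul_mem hk hh) hg, ?_, ?_, ?_⟩
  · calc k * h * g * u * (k * h * g)⁻¹ = k * (h * u1 * h⁻¹) * k⁻¹ := by rw [hu1]; group
      _ = u' := by rw [hhu, hku]
  · calc k * h * g * v * (k * h * g)⁻¹ = k * (h * v1 * h⁻¹) * k⁻¹ := by rw [hv1]; group
      _ = v' := by rw [← hv2, hkv]
  · rw [Perm.mul_apply, Perm.mul_apply, g1, ha, ka]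

theorem card_common {u v u' v' : Perm α} {p p' : α} (F : Four G u v p) (F' : Four G u' v' p') :
    (fx u ∩ fx v).card = (fx u' ∩ fx v').card := by
  obtain ⟨g, -, h1, h2, -⟩ := H.conj_four F F'
  rw [← h1, ← h2, fx_conj, fx_conj, ← Finset.image_inter _ _ g.injective,
    Finset.card_image_of_injective _ g.injective]

theorem card_fx_rot {u v : Perm α} {p : α} (F : Four G u v p) :
    (fx u).card = (fx v).card ∧ (fx v).card = (fx (u * v)).card := by
  obtain ⟨g, -, h1, h2, -⟩ := H.conj_four F F.rot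
  constructor
  · rw [← h1, card_fx_conj]
  · rw [← h2, card_fx_conj]

/-- Commuting involutions realizing two disjoint transpositions on four points. -/
theorem exists_pair {a b c d : α} (hd : D4 a b c d) :
    ∃ u ∈ G, ∃ v ∈ G, u * u = 1 ∧ v * v = 1 ∧ u * v = v * u ∧
      (u a = b ∧ u b = a ∧ u c = c ∧ u d = d) ∧ (v a = a ∧ v b = b ∧ v c = d ∧ v d = c) := by
  obtain ⟨hab, hac, had, hbc, hbd, hcd⟩ := id hd
  obtain ⟨g, hg, g1, g2, g3, g4⟩ := H.tr a b c d b a c d hd
    ⟨hab.symm, hbc, hbd, hac, had, hcd⟩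
  obtain ⟨w, hw, w1, w2, w3, w4⟩ := H.tr a b c d a b d c hd
    ⟨hab, had, hac, hbd, hbc, hcd.symm⟩
  obtain ⟨u, hu, uu, -, hux⟩ := H.twoPart hg hd (by rw [g1, g2]) (by rw [g2, g1])
    (by rw [g3, g3]) (by rw [g4, g4])
  obtain ⟨v, hv, vv, -, hvx⟩ := H.twoPart hw hd (by rw [w1, w1]) (by rw [w2, w2])
    (by rw [w3, w4]) (by rw [w4, w3])
  have ua : u a = b := by rw [hux a (by rw [g1, g2]), g1]
  have ub : u b = a := by rw [hux b (by rw [g2, g1]), g2]
  have uc : u c = c := by rw [hux c (by rw [g3, g3]), g3]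
  have ud : u d = d := by rw [hux d (by rw [g4, g4]), g4]
  have va : v a = a := by rw [hvx a (by rw [w1, w1]), w1]
  have vb : v b = b := by rw [hvx b (by rw [w2, w2]), w2]
  have vc : v c = d := by rw [hvx c (by rw [w3, w4]), w3]
  have vd : v d = c := by rw [hvx d (by rw [w4, w3]), w4]
  obtain ⟨z, hz, zz, uz, hzx⟩ := H.commPart hu hv uu vv hd (by rw [va, ua, vb, ub])
    (by rw [vb, ub, va, ua]) (by rw [vc, ud, vd, uc]) (by rw [vd, uc, vc, ud])
  have za : z a = b := by rw [hzx a (by rw [va, ua, vb, ub]), va, ua]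
  have zb : z b = a := by rw [hzx b (by rw [vb, ub, va, ua]), vb, ub]
  have zc : z c = d := by rw [hzx c (by rw [vc, ud, vd, uc]), vc, ud]
  have zd : z d = c := by rw [hzx d (by rw [vd, uc, vc, ud]), vd, uc]
  refine ⟨u, hu, u * z, mul_mem hu hz, uu, mul_involutive uu zz uz, ?_, ⟨ua, ub, uc, ud⟩, ?_⟩
  · calc u * (u * z) = u * (z * u) := by rw [uz]
      _ = u * z * u := by group
  · simp only [Perm.mul_apply, za, zb, zc, zd, ua, ub, uc, ud, and_self]

/-- No two commuting involutions have two common fixed points. -/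
theorem eq_of_common (hn : 8 ≤ Fintype.card α) {u v : Perm α} (hu : u ∈ G) (hv : v ∈ G)
    (uu : u * u = 1) (vv : v * v = 1) (hu1 : u ≠ 1) (hv1 : v ≠ 1) (comm : u * v = v * u)
    {c d : α} (hcd : c ≠ d) (huc : u c = c) (hud : u d = d) (hvc : v c = c) (hvd : v d = d) :
    u = v := by
  by_contra hne
  have huv : u * v ≠ 1 := fun h => hne (by rw [eq_comm, ← inv_eq uu]; exact
    (inv_eq_of_mul_eq_one_right h).symm)
  have t1 := H.card_fx_le hu uu hu1
  have t2 := H.card_fx_le hv vv hv1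
  have t3 := H.card_fx_le (mul_mem hu hv) (mul_involutive uu vv comm) huv
  have hsub : ∀ w : Perm α, w c = c → w d = d → (fx w).card ≤ 3 →
      (fx w \ {c, d}).card ≤ 1 := by
    intro w hc hd h3
    rw [Finset.card_sdiff_of_subset (by intro x; simp; rintro (rfl | rfl) <;> assumption),
      Finset.card_pair hcd]
    omega
  have hcard : (fx u ∪ fx v ∪ fx (u * v)).card ≤ 5 := by
    calc (fx u ∪ fx v ∪ fx (u * v)).card
        ≤ (({c, d} : Finset α) ∪ (fx u \ {c, d}) ∪ (fx v \ {c, d}) ∪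
            (fx (u * v) \ {c, d})).card := Finset.card_le_card (by intro x; simp; tauto)
      _ ≤ 5 := by
        refine (Finset.card_union_le _ _).trans ?_
        have a1 := (Finset.card_union_le (({c, d} : Finset α) ∪ (fx u \ {c, d})) (fx v \ {c, d}))
        have a2 := (Finset.card_union_le (({c, d} : Finset α)) (fx u \ {c, d}))
        have a3 := hsub u huc hud t1
        have a4 := hsub v hvc hvd t2
        have a5 := hsub (u * v) (by simp [huc, hvc]) (by simp [hud, hvd]) t3
        have a6 := Finset.card_pair hcd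
        omega
  obtain ⟨p, -, hp⟩ := Finset.exists_mem_notMem_of_card_lt_card
    (s := fx u ∪ fx v ∪ fx (u * v)) (t := Finset.univ) (by rw [Finset.card_univ]; omega)
  simp only [Finset.mem_union, not_or] at hp
  have F := Four.of_not_fixed hu hv uu vv comm hp.1.1 hp.1.2 hp.2
  -- a regular four-group with at most one common fixed point
  obtain ⟨a, -, b, -, a', -, b', -, h4⟩ := exists_four (s := (Finset.univ : Finset α))
    (by rw [Finset.card_univ]; omega)
  obtain ⟨U, hU, V, hV, UU, VV, UV, ⟨Ua, Ub, Uc, Ud⟩, ⟨Va, Vb, Vc, Vd⟩⟩ := H.exists_pair h4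
  obtain ⟨hab, hac, had, hbc, hbd, hcd'⟩ := h4
  have hU1 : U ≠ 1 := fun h => hab (by rw [← Ua, h, Perm.one_apply])
  have hV1 : V ≠ 1 := fun h => hcd' (by rw [← Vc, h, Perm.one_apply])
  have hUV1 : U * V ≠ 1 := fun h => hab (by
    have := congrArg (fun w : Perm α => w a) h
    simp [Va, Ua] at this
    exact this.symm)
  have T1 := H.card_fx_le hU UU hU1
  have T2 := H.card_fx_le hV VV hV1
  have T3 := H.card_fx_le (mul_mem hU hV) (mul_involutive UU VV UV) hUV1
  have P1 := fx_parity UU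
  have P2 := fx_parity VV
  have P3 := fx_parity (mul_involutive UU VV UV)
  have hsub1 : ({a', b'} : Finset α) ⊆ fx U \ (fx V) := by
    intro x; simp; rintro (rfl | rfl) <;> simp [Uc, Ud, Vc, Vd, hcd', hcd'.symm]
  have hsdiff : (fx U \ fx V).card + (fx U ∩ fx V).card = (fx U).card :=
    Finset.card_sdiff_add_card_inter _ _
  have h2 := Finset.card_le_card hsub1
  rw [Finset.card_pair hcd'] at h2
  have hcommon : (fx U ∩ fx V).card ≤ 1 := by omega
  have hex : (fx U ∪ fx V ∪ fx (U * V)).card < Fintype.card α := by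
    have := Finset.card_union_le (fx U ∪ fx V) (fx (U * V))
    have := Finset.card_union_add_card_inter (fx U) (fx V)
    rcases Nat.mod_two_eq_zero_or_one (Fintype.card α) with h | h
    · omega
    · -- the third fixed point of `U` is fixed by `V`
      have hU3 : (fx U).card = 3 := by omega
      have : 1 ≤ (fx U ∩ fx V).card := by
        have hmap : ∀ x ∈ fx U, V x ∈ fx U := fun x hx => by
          rw [mem_fx] at hx ⊢; rw [comm_apply UV, hx]
        obtain ⟨e, he, hne'⟩ := Finset.exists_mem_notMem_of_card_lt_card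
          (s := ({a', b'} : Finset α)) (t := fx U) (by rw [Finset.card_pair hcd', hU3]; norm_num)
        simp only [Finset.mem_insert, Finset.mem_singleton, not_or] at hne'
        have hset : fx U = {a', b', e} := by
          refine (Finset.eq_of_subset_of_card_le (fun x hx => ?_) ?_).symm
          · simp only [Finset.mem_insert, Finset.mem_singleton] at hx
            rcases hx with rfl | rfl | rfl
            exacts [mem_fx.2 Uc, mem_fx.2 Ud, he]
          · rw [hU3, Finset.card_eq_three.2 ⟨a', b', e, hcd', Ne.symm hne'.1, Ne.symm hne'.2, rfl⟩]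
        have hVe := hmap e he
        rw [hset] at hVe
        simp only [Finset.mem_insert, Finset.mem_singleton] at hVe
        have hVe' : V e = e := by
          rcases hVe with h | h | h
          · exact absurd (V.injective (h.trans Vd.symm)) hne'.2
          · exact absurd (V.injective (h.trans Vc.symm)) hne'.1
          · exact h
        exact Finset.card_pos.2 ⟨e, Finset.mem_inter.2 ⟨he, mem_fx.2 hVe'⟩⟩
      omega
  obtain ⟨q, -, hq⟩ := Finset.exists_mem_notMem_of_card_lt_card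
    (s := fx U ∪ fx V ∪ fx (U * V)) (t := Finset.univ) (by rw [Finset.card_univ]; exact hex)
  simp only [Finset.mem_union, not_or] at hq
  have F' := Four.of_not_fixed hU hV UU VV UV hq.1.1 hq.1.2 hq.2
  have hc := H.card_common F F'
  have : 2 ≤ (fx u ∩ fx v).card := by
    rw [← Finset.card_pair hcd]
    refine Finset.card_le_card ?_
    intro x; simp; rintro (rfl | rfl) <;> constructor <;> assumption
  omega

end Hyp

end CfsgLib.HallFour
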