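import Cfsg.Agent.HallFour.Odd
import Mathlib

/-!
On `11` points the four-point stabilizer is trivial.
-/

set_option autoImplicit false
set_option linter.unusedSectionVars false
set_option linter.style.haveILetI false

namespace CfsgLib.HallFour

open Equiv MulAction

variable {α : Type*} [Fintype α] [DecidableEq α]

theorem period_prime {q : Perm α} {p : ℕ} (hp : p.Prime) (hq : q ^ p = 1) {w : α} (hw : q w ≠ w) :
    Function.Injective fun i : Fin p => (q ^ (i : ℕ)) w := by
  have key : ∀ d, 0 < d → d < p → (q ^ d) w ≠ w := by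
    intro d hd0 hdp h
    have hcop : Nat.gcd d p = 1 :=
      Nat.Coprime.symm ((Nat.Prime.coprime_iff_not_dvd hp).2 (Nat.not_dvd_of_pos_of_lt hd0 hdp))
    obtain ⟨m, -, hm⟩ := Nat.exists_mul_mod_eq_one_of_coprime hcop hp.one_lt
    apply hw
    have h1 : ((q ^ d) ^ m) w = w := Perm.pow_apply_eq_self_of_apply_eq_self h m
    rwa [← pow_mul, pow_eq_pow_mod _ hq, hm, pow_one] at h1
  intro i j hij
  by_contra hne
  rcases lt_or_gt_of_ne (fun h => hne (Fin.ext h) : (i : ℕ) ≠ j) with h | h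
  · refine key (j - i) (by omega) (by omega) ?_
    apply (q ^ (i : ℕ)).injective
    rw [← Perm.mul_apply, ← pow_add, show (i : ℕ) + (j - i) = j by omega]
    exact hij.symm
  · refine key (i - j) (by omega) (by omega) ?_
    apply (q ^ (j : ℕ)).injective
    rw [← Perm.mul_apply, ← pow_add, show (j : ℕ) + (i - j) = i by omega]
    exact hij

variable {G K : Subgroup (Perm α)} {a b c d : α}

theorem not_seven (H : Hyp G) (hn : Fintype.card α = 11) (h4 : D4 a b c d)
    (hK : ∀ g : Perm α, g ∈ K ↔ g ∈ G ∧ g a = a ∧ g b = b ∧ g c = c ∧ g d = d)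
    (hdvd : Nat.card K ∣ 5040) : ¬ 7 ∣ Nat.card K := by
  intro h7
  haveI : Fact (Nat.Prime 7) := ⟨by norm_num⟩
  obtain ⟨S⟩ : Nonempty (Sylow 7 K) := inferInstance
  have hfac : (Nat.card K).factorization 7 = 1 := by
    refine le_antisymm ?_ ((Nat.Prime.dvd_iff_one_le_factorization (by norm_num)
      Nat.card_pos.ne').1 h7)
    by_contra h
    have h49 : 7 ^ 2 ∣ Nat.card K :=
      (Nat.Prime.pow_dvd_iff_le_factorization (by norm_num) Nat.card_pos.ne').2 (by omega)
    exact absurd (h49.trans hdvd) (by norm_num)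
  have hS : Nat.card (S : Subgroup K) = 7 := by rw [S.card_eq_multiplicity, hfac, pow_one]
  set P := (S : Subgroup K).map K.subtype with hP
  have hPc : Nat.card P = 7 := by
    rw [hP, ← Nat.card_congr ((S : Subgroup K).equivMapOfInjective _
      (Subgroup.subtype_injective K)).toEquiv, hS]
  obtain ⟨⟨q, hqP⟩, hq⟩ := exists_prime_orderOf_dvd_card' (G := P) 7 (dvd_of_eq hPc.symm)
  have hq7 : q ^ 7 = 1 := by
    have := pow_orderOf_eq_one (⟨q, hqP⟩ : P)
    rw [hq] at this
    exact congrArg Subtype.val this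
  have hgen : ∀ r ∈ P, ∃ i : ℕ, r = q ^ i := fun r hr => by
    have htop : Subgroup.zpowers (⟨q, hqP⟩ : P) = ⊤ :=
      Subgroup.eq_top_of_card_eq _ (by rw [Nat.card_zpowers, hq, hPc])
    obtain ⟨i, hi⟩ : (⟨r, hr⟩ : P) ∈ Submonoid.powers (⟨q, hqP⟩ : P) :=
      mem_powers_iff_mem_zpowers.2 (htop.symm ▸ Subgroup.mem_top _)
    exact ⟨i, (congrArg Subtype.val hi).symm⟩
  have hqfix : q a = a ∧ q b = b ∧ q c = c ∧ q d = d := by
    obtain ⟨k, -, hk⟩ := Subgroup.mem_map.1 hqP
    rw [← hk]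
    exact ((hK _).1 k.2).2
  obtain ⟨hab, hac, had, hbc, hbd, hcd⟩ := id h4
  have hfix : ∀ r ∈ (S : Subgroup K), ((r : Perm α) a = a ∧ (r : Perm α) b = b ∧
      (r : Perm α) c = c ∧ (r : Perm α) d = d) := fun r _ => ((hK _).1 r.2).2
  obtain ⟨l₁, hl₁, hn₁, k1, k2, k3, k4⟩ := witt H S h4
    (⟨hab.symm, hbc, hbd, hac, had, hcd⟩ : D4 b a c d) hK
    (fun r hr => ⟨(hfix r hr).2.1, (hfix r hr).1, (hfix r hr).2.2.1, (hfix r hr).2.2.2⟩)
  obtain ⟨l₂, hl₂, hn₂, m1, m2, m3, m4⟩ := witt H S h4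
    (⟨hab, had, hac, hbd, hbc, hcd.symm⟩ : D4 a b d c) hK
    (fun r hr => ⟨(hfix r hr).1, (hfix r hr).2.1, (hfix r hr).2.2.2, (hfix r hr).2.2.1⟩)
  obtain ⟨s₁, hs₁, ss₁, ⟨e₁, he₁⟩, sx₁⟩ := H.twoPart hl₁ h4 (by rw [k1, k2]) (by rw [k2, k1])
    (by rw [k3, k3]) (by rw [k4, k4])
  obtain ⟨s₂, hs₂, ss₂, ⟨e₂, he₂⟩, sx₂⟩ := H.twoPart hl₂ h4 (by rw [m1, m1]) (by rw [m2, m2])
    (by rw [m3, m4]) (by rw [m4, m3])
  have s1a : s₁ a = b := by rw [sx₁ a (by rw [k1, k2]), k1]
  have s1b : s₁ b = a := by rw [sx₁ b (by rw [k2, k1]), k2]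
  have s1c : s₁ c = c := by rw [sx₁ c (by rw [k3, k3]), k3]
  have s1d : s₁ d = d := by rw [sx₁ d (by rw [k4, k4]), k4]
  have s2a : s₂ a = a := by rw [sx₂ a (by rw [m1, m1]), m1]
  have s2b : s₂ b = b := by rw [sx₂ b (by rw [m2, m2]), m2]
  have s2c : s₂ c = d := by rw [sx₂ c (by rw [m3, m4]), m3]
  have s2d : s₂ d = c := by rw [sx₂ d (by rw [m4, m3]), m4]
  -- a normalizing involution centralizes or inverts
  have hsign : ∀ {l s : Perm α} (e : ℕ), (∀ r ∈ P, l⁻¹ * r * l ∈ P) → s = l ^ e → s * s = 1 →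
      s * q * s = q ∨ s * q * s = q⁻¹ := by
    intro l s e hl he hss
    have hmem : ∀ n : ℕ, (l ^ n)⁻¹ * q * l ^ n ∈ P := fun n => by
      induction n with
      | zero => simpa using hqP
      | succ n ih =>
        have h := hl _ ih
        rw [pow_succ]
        convert h using 1
        group
    obtain ⟨i, hi⟩ := hgen _ (hmem e)
    rw [← he, inv_eq hss] at hi
    have h2 : q = q ^ (i * i) := by
      calc q = s * (s * q * s⁻¹) * s⁻¹ := by
            rw [inv_eq hss]; simp only [mul_assoc]; rw [hss, mul_one, ← mul_assoc, hss, one_mul]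
        _ = (s * q * s⁻¹) ^ i := by rw [conj_pow, inv_eq hss, hi]
        _ = q ^ (i * i) := by rw [inv_eq hss, hi, ← pow_mul]
    rw [hi, pow_eq_pow_mod i hq7]
    have h3 : i % 7 * (i % 7) % 7 = 1 := by
      rw [← Nat.mul_mod]
      have hoq : orderOf q = 7 := by
        rw [← hq]; exact orderOf_injective P.subtype Subtype.val_injective ⟨q, hqP⟩
      have h4 : i * i ≡ 1 [MOD orderOf q] := pow_eq_pow_iff_modEq.1 (by rw [pow_one]; exact h2.symm)
      rwa [hoq] at h4
    have hdec : ∀ r < 7, r * r % 7 = 1 → r = 1 ∨ r = 6 := by decide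
    rcases hdec _ (Nat.mod_lt i (by norm_num)) h3 with h | h <;> rw [h]
    · exact Or.inl (pow_one q)
    · exact Or.inr (eq_inv_of_mul_eq_one_left (by rw [← pow_succ, hq7]))
  -- no involution permuting the four points centralizes
  have hkill : ∀ s ∈ G, s * s = 1 → s * q * s = q → s ≠ 1 →
      (∀ z ∈ ({a, b, c, d} : Finset α), s z ∈ ({a, b, c, d} : Finset α)) → False := by
    intro s hs hss hsq hne hset
    have hcomm : Commute s q := by
      calc s * q = s * q * (s * s) := by rw [hss, mul_one]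
        _ = q * s := by rw [← mul_assoc, hsq]
    obtain ⟨w, hw⟩ : ∃ w, q w ≠ w := by
      by_contra h
      push Not at h
      have : (⟨q, hqP⟩ : P) = 1 := Subtype.ext (Equiv.ext h)
      rw [this, orderOf_one] at hq
      norm_num at hq
    have hinj := period_prime (by norm_num) hq7 hw
    set O := Finset.univ.image fun i : Fin 7 => (q ^ (i : ℕ)) w with hO
    have hOc : O.card = 7 := by rw [hO, Finset.card_image_of_injective _ hinj]; simp
    have hnot : ∀ z, q z = z → z ∉ O := by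
      intro z hz hzO
      simp only [hO, Finset.mem_image, Finset.mem_univ, true_and] at hzO
      obtain ⟨i, rfl⟩ := hzO
      apply hw
      apply (q ^ (i : ℕ)).injective
      rw [← Perm.mul_apply, ← pow_succ, pow_succ', Perm.mul_apply]
      exact hz
    obtain ⟨qa, qb, qc, qd⟩ := hqfix
    have hcompl : O = ({a, b, c, d} : Finset α)ᶜ := by
      refine Finset.eq_of_subset_of_card_le (fun z hz => ?_) ?_
      · simp only [Finset.mem_compl, Finset.mem_insert, Finset.mem_singleton, not_or]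
        exact ⟨fun h => hnot z (h ▸ qa) hz, fun h => hnot z (h ▸ qb) hz,
          fun h => hnot z (h ▸ qc) hz, fun h => hnot z (h ▸ qd) hz⟩
      · rw [Finset.card_compl, hn, hOc, Finset.card_eq_four.2 ⟨a, b, c, d, hab, hac, had, hbc,
          hbd, hcd, rfl⟩]
    have hsw : s w ∈ O := by
      have hww : w ∈ O := by
        simp only [hO, Finset.mem_image, Finset.mem_univ, true_and]
        exact ⟨0, by simp⟩
      rw [hcompl, Finset.mem_compl] at hww ⊢
      exact fun h => hww (by simpa [apply_apply hss] using hset _ h)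
    simp only [hO, Finset.mem_image, Finset.mem_univ, true_and] at hsw
    obtain ⟨i, hi⟩ := hsw
    have h2 : (q ^ (2 * (i : ℕ))) w = w := by
      rw [two_mul, pow_add, Perm.mul_apply, hi, ← Perm.mul_apply, ← (hcomm.pow_right _).eq,
        Perm.mul_apply, hi, apply_apply hss]
    have h1 : (q ^ (i : ℕ)) w = w := by
      have := Perm.pow_apply_eq_self_of_apply_eq_self h2 4
      rwa [← pow_mul, show 2 * (i : ℕ) * 4 = i + 7 * i by ring, pow_add, pow_mul, hq7, one_pow,
        mul_one] at this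
    have sw : s w = w := hi ▸ h1
    have sO : ∀ j : ℕ, s ((q ^ j) w) = (q ^ j) w := fun j => by
      rw [← Perm.mul_apply, (hcomm.pow_right j).eq, Perm.mul_apply, sw]
    have hD : D4 ((q ^ 0) w) ((q ^ 1) w) ((q ^ 2) w) ((q ^ 3) w) :=
      ⟨fun h => absurd (hinj (a₁ := (0 : Fin 7)) (a₂ := 1) h) (by decide),
        fun h => absurd (hinj (a₁ := (0 : Fin 7)) (a₂ := 2) h) (by decide),
        fun h => absurd (hinj (a₁ := (0 : Fin 7)) (a₂ := 3) h) (by decide),
        fun h => absurd (hinj (a₁ := (1 : Fin 7)) (a₂ := 2) h) (by decide),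
        fun h => absurd (hinj (a₁ := (1 : Fin 7)) (a₂ := 3) h) (by decide),
        fun h => absurd (hinj (a₁ := (2 : Fin 7)) (a₂ := 3) h) (by decide)⟩
    exact hne (H.fix4 hs hss hD (sO 0) (sO 1) (sO 2) (sO 3))
  rcases hsign e₁ hn₁ he₁ ss₁ with h1 | h1
  · refine hkill s₁ hs₁ ss₁ h1 (fun h => hab (by rw [← s1a, h, Perm.one_apply])) fun z hz => ?_
    simp only [Finset.mem_insert, Finset.mem_singleton] at hz ⊢
    rcases hz with rfl | rfl | rfl | rfl <;> simp [s1a, s1b, s1c, s1d]
  rcases hsign e₂ hn₂ he₂ ss₂ with h2 | h2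
  · refine hkill s₂ hs₂ ss₂ h2 (fun h => hcd (by rw [← s2c, h, Perm.one_apply])) fun z hz => ?_
    simp only [Finset.mem_insert, Finset.mem_singleton] at hz ⊢
    rcases hz with rfl | rfl | rfl | rfl <;> simp [s2a, s2b, s2c, s2d]
  · -- the product of two inverting involutions centralizes
    obtain ⟨z, hz, zz, ⟨n, hn'⟩, hzx⟩ := H.twoPart (mul_mem hs₁ hs₂) h4 (g := s₁ * s₂)
      (by simp [s2a, s1a, s2b, s1b]) (by simp [s2a, s1a, s2b, s1b])
      (by simp [s2c, s1d, s2d, s1c]) (by simp [s2d, s1c, s2c, s1d])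
    have hc : Commute (s₁ * s₂) q := by
      have e2 : s₂ * q = q⁻¹ * s₂ := by
        calc s₂ * q = s₂ * q * (s₂ * s₂) := by rw [ss₂, mul_one]
          _ = q⁻¹ * s₂ := by rw [← mul_assoc, h2]
      have e1 : s₁ * q⁻¹ = q * s₁ := by
        have := congrArg (fun x => x⁻¹) h1
        simp only [mul_inv_rev, inv_eq ss₁, inv_inv] at this
        calc s₁ * q⁻¹ = s₁ * q⁻¹ * (s₁ * s₁) := by rw [ss₁, mul_one]
          _ = q * s₁ := by rw [← mul_assoc, mul_assoc s₁ q⁻¹, this]
      calc s₁ * s₂ * q = s₁ * (s₂ * q) := mul_assoc _ _ _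
        _ = s₁ * q⁻¹ * s₂ := by rw [e2, mul_assoc]
        _ = q * (s₁ * s₂) := by rw [e1, mul_assoc]
    have hzq : z * q * z = q := by
      have h : Commute z q := hn' ▸ hc.pow_left n
      rw [h.eq, mul_assoc, zz, mul_one]
    have za : z a = b := by rw [hzx a (by simp [s2a, s1a, s2b, s1b])]; simp [s2a, s1a]
    have zb : z b = a := by rw [← za, apply_apply zz]
    have zc : z c = d := by rw [hzx c (by simp [s2c, s1d, s2d, s1c])]; simp [s2c, s1d]
    have zd : z d = c := by rw [← zc, apply_apply zz]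
    refine hkill z hz zz hzq (fun h => hab (by rw [← za, h, Perm.one_apply])) fun w hw => ?_
    simp only [Finset.mem_insert, Finset.mem_singleton] at hw ⊢
    rcases hw with rfl | rfl | rfl | rfl <;> simp [za, zb, zc, zd]

theorem not_nine (H : Hyp G) (hprim : IsPreprimitive G α) (hn : Fintype.card α = 11)
    (h4 : D4 a b c d)
    (hK : ∀ g : Perm α, g ∈ K ↔ g ∈ G ∧ g a = a ∧ g b = b ∧ g c = c ∧ g d = d)
    (hdvd : Nat.card K ∣ 5040) : ¬ 9 ∣ Nat.card K := by
  intro h9
  haveI : Fact (Nat.Prime 3) := ⟨by norm_num⟩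
  let C : Finset α := ({a, b, c, d} : Finset α)ᶜ
  obtain ⟨hab, hac, had, hbc, hbd, hcd⟩ := id h4
  have hC : C.card = 7 := by
    rw [Finset.card_compl, hn, Finset.card_eq_four.2 ⟨a, b, c, d, hab, hac, had, hbc, hbd, hcd, rfl⟩]
  have hout : ∀ k ∈ K, ∀ z, z ∉ C → k z = z := fun k hk z hz => by
    obtain ⟨-, ka, kb, kc, kd⟩ := (hK k).1 hk
    simp only [C, Finset.mem_compl, not_not, Finset.mem_insert, Finset.mem_singleton] at hz
    rcases hz with rfl | rfl | rfl | rfl <;> assumption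
  have hpres : ∀ k ∈ K, ∀ z, k z ∈ C ↔ z ∈ C := fun k hk z => by
    constructor
    · intro h
      by_contra hz
      exact hz (by rwa [hout k hk z hz] at h)
    · intro h
      by_contra hz
      exact hz (by rw [k.injective (hout k hk _ hz)]; exact h)
  let f : K →* Perm C :=
    { toFun := fun k => (k : Perm α).subtypePerm (hpres k k.2)
      map_one' := by ext x; rfl
      map_mul' := fun k l => by ext x; rfl }
  have hofS : ∀ k : K, Perm.ofSubtype (f k) = (k : Perm α) := fun k =>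
    Perm.ofSubtype_subtypePerm (hpres k k.2) fun x hx => by
      by_contra h
      exact hx (hout k k.2 x h)
  have finj : Function.Injective f := fun k l h => Subtype.ext (by rw [← hofS k, ← hofS l, h])
  have hPC : Nat.card (Perm C) = 5040 := by
    rw [Nat.card_perm, Nat.card_eq_fintype_card, Fintype.card_coe, hC]; decide
  have hfac : ∀ m, m ∣ 5040 → 9 ∣ m → m.factorization 3 = 2 := fun m hm h9 => by
    have hm0 : m ≠ 0 := by rintro rfl; norm_num at hm
    refine le_antisymm ?_ ((Nat.Prime.pow_dvd_iff_le_factorization (by norm_num) hm0).1 h9)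
    by_contra h
    exact absurd (((Nat.Prime.pow_dvd_iff_le_factorization (by norm_num) hm0).2
      (show 3 ≤ m.factorization 3 by omega)).trans hm) (by norm_num)
  obtain ⟨S⟩ : Nonempty (Sylow 3 K) := inferInstance
  have hR : Nat.card ((S : Subgroup K).map f) = 3 ^ (Nat.card (Perm C)).factorization 3 := by
    rw [← Nat.card_congr ((S : Subgroup K).equivMapOfInjective f finj).toEquiv,
      S.card_eq_multiplicity, hfac _ hdvd h9, hPC, hfac 5040 dvd_rfl (by norm_num)]
  obtain ⟨x, y, z, hxy, hxz, hyz⟩ := Fintype.two_lt_card_iff.1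
    (show 2 < Fintype.card C by rw [Fintype.card_coe, hC]; norm_num)
  set σ : Perm C := Equiv.swap x y * Equiv.swap x z with hσdef
  have hσ : σ.IsThreeCycle := Perm.isThreeCycle_swap_mul_swap_same hxy hxz hyz
  have hσp : IsPGroup 3 (Subgroup.zpowers σ) :=
    IsPGroup.of_card (n := 1) (by rw [Nat.card_zpowers, hσ.orderOf, pow_one])
  obtain ⟨T, hT⟩ := hσp.exists_le_sylow
  obtain ⟨g, hg⟩ := MulAction.exists_smul_eq (Perm C) T (Sylow.ofCard _ hR)
  have hmem : g * σ * g⁻¹ ∈ (S : Subgroup K).map f := by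
    have h : g * σ * g⁻¹ ∈ ((g • T : Sylow 3 (Perm C)) : Subgroup (Perm C)) :=
      ⟨σ, hT (Subgroup.mem_zpowers σ), rfl⟩
    rw [hg] at h
    exact h
  obtain ⟨k, -, hk⟩ := hmem
  have h3 : (k : Perm α).IsThreeCycle := by
    show (k : Perm α).cycleType = {3}
    rw [← hofS k, Perm.cycleType_ofSubtype, hk, Perm.cycleType_conj]
    exact hσ
  have hle := Perm.alternatingGroup_le_of_isPreprimitive_of_isThreeCycle_mem hprim h3
    ((hK _).1 k.2).1
  obtain ⟨p, hp, q, hq, r, hr, s, hs, hD⟩ := exists_four (s := C) (by omega)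
  set w : Perm α := Equiv.swap p q * Equiv.swap r s with hwdef
  obtain ⟨hpq, hpr, hps, hqr, hqs, hrs⟩ := hD
  have hwG : w ∈ G := hle (by
    rw [Perm.mem_alternatingGroup, hwdef, map_mul, Perm.sign_swap hpq, Perm.sign_swap hrs]; rfl)
  have hww : w * w = 1 := by
    have hd : Commute (Equiv.swap p q) (Equiv.swap r s) := by
      refine (Perm.Disjoint.commute ?_)
      intro z
      by_cases h1 : z = r
      · left; rw [h1, Equiv.swap_apply_of_ne_of_ne hpr.symm hqr.symm]
      by_cases h2 : z = s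
      · left; rw [h2, Equiv.swap_apply_of_ne_of_ne hps.symm hqs.symm]
      · right; exact Equiv.swap_apply_of_ne_of_ne h1 h2
    calc w * w = Equiv.swap p q * (Equiv.swap r s * Equiv.swap p q) * Equiv.swap r s := by
          rw [hwdef]; group
      _ = Equiv.swap p q * Equiv.swap p q * (Equiv.swap r s * Equiv.swap r s) := by
          rw [← hd.eq]; group
      _ = 1 := by rw [Equiv.swap_mul_self, Equiv.swap_mul_self, one_mul]
  have hfixw : ∀ z, z ∉ C → w z = z := fun z hz => by
    have hne : ∀ t ∈ C, z ≠ t := fun t ht h => hz (h ▸ ht)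
    rw [hwdef, Perm.mul_apply, Equiv.swap_apply_of_ne_of_ne (hne r hr) (hne s hs),
      Equiv.swap_apply_of_ne_of_ne (hne p hp) (hne q hq)]
  have h1 := H.fix4 hwG hww h4 (hfixw a (by simp [C])) (hfixw b (by simp [C]))
    (hfixw c (by simp [C])) (hfixw d (by simp [C]))
  apply hpq
  have := congrArg (fun e : Perm α => e p) h1
  simp [hwdef, Equiv.swap_apply_of_ne_of_ne hpr hps] at this
  exact this.symm

end CfsgLib.HallFour
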