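import Cfsg.Agent.HallFour.Basic
import Cfsg.Agent.ZStar.Final

/-!
There is no example on an even number `n ≥ 8` of points.
-/

set_option autoImplicit false
set_option linter.unusedSectionVars false
set_option linter.style.haveILetI false

namespace CfsgLib.HallFour

open Equiv MulAction

variable {α : Type*} [Fintype α] [DecidableEq α]

theorem not_even {G : Subgroup (Perm α)} (H : Hyp G) (hn : 8 ≤ Fintype.card α)
    (hev : Even (Fintype.card α)) : False := by
  obtain ⟨a, -, b, -, c, -, d, -, h4⟩ := exists_four (s := (Finset.univ : Finset α))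
    (by rw [Finset.card_univ]; omega)
  obtain ⟨u, hu, -, -, uu, -, -, ⟨ua, ub, uc, ud⟩, -⟩ := H.exists_pair h4
  obtain ⟨hab, -, -, -, -, hcd⟩ := h4
  set X : Subgroup (Perm α) := G ⊓ stabilizer (Perm α) c ⊓ stabilizer (Perm α) d with hX
  have hmem : ∀ {g : Perm α}, g ∈ X ↔ g ∈ G ∧ g c = c ∧ g d = d := fun {g} => by
    rw [hX, Subgroup.mem_inf, Subgroup.mem_inf, mem_stabilizer_iff, mem_stabilizer_iff, and_assoc,
      Perm.smul_def, Perm.smul_def]
  have huX : u ∈ X := hmem.2 ⟨hu, uc, ud⟩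
  have hu1 : u ≠ 1 := fun h => hab (by rw [← ua, h, Perm.one_apply])
  -- transitivity on pairs
  have htr : ∀ p q q' : α, p ≠ c → p ≠ d → q ≠ c → q ≠ d → q ≠ p → q' ≠ c → q' ≠ d → q' ≠ p →
      ∃ x ∈ X, x p = p ∧ x q = q' := fun p q q' h1 h2 h3 h4 h5 h6 h7 h8 => by
    obtain ⟨g, hg, g1, g2, g3, g4⟩ := H.tr c d p q c d p q'
      ⟨hcd, h1.symm, h3.symm, h2.symm, h4.symm, h5.symm⟩
      ⟨hcd, h1.symm, h6.symm, h2.symm, h7.symm, h8.symm⟩
    exact ⟨g, hmem.2 ⟨hg, g1, g2⟩, g3, g4⟩
  have hiso : Cfsg.IsIsolatedInvolution (⟨u, huX⟩ : X) := by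
    refine ⟨?_, fun g hg => ?_⟩
    · rw [← orderOf_injective X.subtype Subtype.val_injective]
      exact orderOf_eq_prime (by rw [sq]; exact uu) hu1
    · apply Subtype.ext
      obtain ⟨hvG, hvc, hvd⟩ := hmem.1 (g * ⟨u, huX⟩ * g⁻¹ : X).2
      exact (H.eq_of_common hn hu hvG uu
        (by simp only [Subgroup.coe_mul, Subgroup.coe_inv]; rw [conj_mul, uu]; simp) hu1
        (fun h => hu1 (by simpa using h)) (congrArg Subtype.val hg.eq) hcd uc ud hvc hvd).symm
  obtain ⟨N, hN, hodd, hcomm⟩ := CfsgLib.ZStar.zstar hiso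
  by_cases hbot : N = ⊥
  · -- the involution is central
    have hc : ∀ x ∈ X, x * u = u * x := fun x hx => by
      have h := hcomm ⟨x, hx⟩
      rw [hbot, Subgroup.mem_bot, mul_inv_eq_one, mul_inv_eq_iff_eq_mul] at h
      exact (congrArg Subtype.val h).symm
    have hac : a ≠ c := fun h => hab (by rw [← ua, h, uc])
    have had : a ≠ d := fun h => hab (by rw [← ua, h, ud])
    have hbc : b ≠ c := fun h => hab (u.injective (by rw [ua, h, uc]))
    have hbd : b ≠ d := fun h => hab (u.injective (by rw [ua, h, ud]))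
    obtain ⟨q, -, hq⟩ := Finset.exists_mem_notMem_of_card_lt_card
      (s := ({a, b, c, d} : Finset α)) (t := Finset.univ)
      (by rw [Finset.card_univ]; exact lt_of_le_of_lt (Finset.card_le_four) (by omega))
    simp only [Finset.mem_insert, Finset.mem_singleton, not_or] at hq
    obtain ⟨x, hx, xa, xb⟩ := htr a b q hac had hbc hbd (Ne.symm hab) hq.2.2.1 hq.2.2.2 hq.1
    apply hq.2.1
    calc q = x (u a) := by rw [ua, xb]
      _ = u (x a) := by rw [← Perm.mul_apply, hc x hx]; rfl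
      _ = b := by rw [xa, ua]
  · obtain ⟨⟨⟨o, hoX⟩, hoN⟩, ho1⟩ : ∃ o : N, o ≠ 1 := by
      by_contra h
      push Not at h
      exact hbot ((Subgroup.eq_bot_iff_forall _).2 fun x hx => congrArg Subtype.val (h ⟨x, hx⟩))
    obtain ⟨p, hp⟩ : ∃ p, o p ≠ p := by
      by_contra h
      push Not at h
      exact ho1 (Subtype.ext (Subtype.ext (Equiv.ext h)))
    obtain ⟨-, hoc, hod⟩ := hmem.1 hoX
    have hpc : p ≠ c := fun h => hp (by rw [h, hoc])
    have hpd : p ≠ d := fun h => hp (by rw [h, hod])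
    have horb : orbit N p = ({c, d} : Set α)ᶜ := by
      ext q
      simp only [Set.mem_compl_iff, Set.mem_insert_iff, Set.mem_singleton_iff, not_or]
      constructor
      · rintro ⟨n, rfl⟩
        obtain ⟨-, hnc, hnd⟩ := hmem.1 n.1.2
        exact ⟨fun h => hpc ((n.1.1 : Perm α).injective (h.trans hnc.symm)),
          fun h => hpd ((n.1.1 : Perm α).injective (h.trans hnd.symm))⟩
      · rintro ⟨hqc, hqd⟩
        by_cases hqp : q = p
        · rw [hqp]; exact mem_orbit_self p
        obtain ⟨x, hx, xp, xq⟩ := htr p (o p) q hpc hpd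
          (fun h => hpc (o.injective (h.trans hoc.symm)))
          (fun h => hpd (o.injective (h.trans hod.symm))) hp hqc hqd hqp
        refine ⟨⟨_, hN.conj_mem _ hoN ⟨x, hx⟩⟩, ?_⟩
        show (x * o * x⁻¹) p = q
        rw [Perm.mul_apply, Perm.mul_apply, Perm.inv_eq_iff_eq.2 xp.symm, xq]
    have h1 := MulAction.index_stabilizer N p
    rw [horb, Set.ncard_compl, Set.ncard_pair hcd, Nat.card_eq_fintype_card] at h1
    have h2 : Odd (stabilizer N p).index := hodd.of_dvd_nat (Subgroup.index_dvd_card _)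
    rw [h1] at h2
    exact (Nat.not_odd_iff_even.2 ((Nat.even_sub (by omega)).2 (by simp [hev]))) h2

end CfsgLib.HallFour
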