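import Cfsg.Agent.HallFour.Basic
import Mathlib

/-!
An odd number `n ≥ 8` of points forces `n = 11`.
-/

set_option autoImplicit false
set_option linter.unusedSectionVars false
set_option linter.style.haveILetI false

namespace CfsgLib.HallFour

open Equiv MulAction

variable {α : Type*} [Fintype α] [DecidableEq α]

/-- An element of odd order permuting two points fixes them. -/
theorem fix_of_two {g : Perm α} (ho : Odd (orderOf g)) {x y : α} (hx : g x = x ∨ g x = y)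
    (hy : g y = x ∨ g y = y) : g x = x := by
  rcases hx with h | h
  · exact h
  rcases hy with h' | h'
  · obtain ⟨k, hk⟩ := ho
    have h2 : (g * g) x = x := by rw [Perm.mul_apply, h, h']
    have h3 : g = ((g * g) ^ (k + 1) : Perm α) := by
      rw [← sq, ← pow_mul]
      calc g = g * g ^ orderOf g := by rw [pow_orderOf_eq_one, mul_one]
        _ = g ^ (2 * (k + 1)) := by rw [hk, ← pow_succ']; congr 1
    rw [h3]; exact Perm.pow_apply_eq_self_of_apply_eq_self h2 _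
  · rw [g.injective (h.trans h'.symm)]; exact h'

/-- The setwise image of a common fixed-point set under an element normalizing the group. -/
theorem map_fixed {P : Subgroup (Perm α)} {l : Perm α}
    (hl : ∀ q ∈ P, l⁻¹ * q * l ∈ P) {f : α} (hf : ∀ q ∈ P, q f = f) :
    ∀ q ∈ P, q (l f) = l f := fun q hq => by
  have := hf _ (hl q hq)
  rwa [Perm.mul_apply, Perm.mul_apply, Perm.inv_eq_iff_eq] at this

/-- A normalizing element realizing a prescribed map on four points (Witt). -/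
theorem witt {G K : Subgroup (Perm α)} (H : Hyp G) {ℓ : ℕ} [Fact ℓ.Prime] (S : Sylow ℓ K)
    {a b c d a' b' c' d' : α} (h4 : D4 a b c d) (h4' : D4 a' b' c' d')
    (hK : ∀ g : Perm α, g ∈ K ↔ g ∈ G ∧ g a = a ∧ g b = b ∧ g c = c ∧ g d = d)
    (hfix : ∀ q ∈ (S : Subgroup K), (q : Perm α) a' = a' ∧ (q : Perm α) b' = b' ∧
      (q : Perm α) c' = c' ∧ (q : Perm α) d' = d') :
    ∃ l ∈ G, (∀ q ∈ (S : Subgroup K).map K.subtype, l⁻¹ * q * l ∈ (S : Subgroup K).map K.subtype) ∧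
      l a = a' ∧ l b = b' ∧ l c = c' ∧ l d = d' := by
  obtain ⟨g, hg, g1, g2, g3, g4⟩ := H.tr _ _ _ _ _ _ _ _ h4 h4'
  have hmem : ∀ q : (S : Subgroup K), g⁻¹ * (q : Perm α) * g ∈ K := fun q => by
    obtain ⟨hqG, -⟩ := (hK _).1 q.1.2
    obtain ⟨q1, q2, q3, q4⟩ := hfix q.1 q.2
    refine (hK _).2 ⟨mul_mem (mul_mem (inv_mem hg) hqG) hg, ?_, ?_, ?_, ?_⟩ <;>
      simp only [Perm.mul_apply, g1, g2, g3, g4, q1, q2, q3, q4, Perm.inv_eq_iff_eq]
  let f : (S : Subgroup K) →* K :=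
    { toFun := fun q => ⟨g⁻¹ * (q : Perm α) * g, hmem q⟩
      map_one' := by ext1; simp
      map_mul' := fun q r => by ext1; simp [mul_assoc] }
  have finj : Function.Injective f := fun q r h => by
    have := congrArg Subtype.val h
    simp only [f, MonoidHom.coe_mk, OneHom.coe_mk, mul_left_inj, mul_right_inj] at this
    exact Subtype.ext (Subtype.ext this)
  have hcard : Nat.card f.range = ℓ ^ (Nat.card K).factorization ℓ := by
    rw [← Nat.card_congr (MonoidHom.ofInjective finj).toEquiv, S.card_eq_multiplicity]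
  obtain ⟨k, hk⟩ := MulAction.exists_smul_eq K (Sylow.ofCard f.range hcard) S
  obtain ⟨hkG, k1, k2, k3, k4⟩ := (hK _).1 k.2
  have hsub : ∀ q : (S : Subgroup K), k * f q * k⁻¹ ∈ (S : Subgroup K) := fun q => by
    have h : k * f q * k⁻¹ ∈ ((k • Sylow.ofCard f.range hcard : Sylow ℓ K) : Subgroup K) :=
      ⟨f q, ⟨q, rfl⟩, rfl⟩
    rwa [hk] at h
  refine ⟨g * (k : Perm α)⁻¹, mul_mem hg (inv_mem hkG), ?_, ?_, ?_, ?_, ?_⟩
  · rintro _ ⟨q, hq, rfl⟩
    refine ⟨k * f ⟨q, hq⟩ * k⁻¹, hsub ⟨q, hq⟩, ?_⟩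
    simp [f, mul_assoc]
  all_goals rw [Perm.mul_apply]
  · rw [Perm.inv_eq_iff_eq.2 k1.symm, g1]
  · rw [Perm.inv_eq_iff_eq.2 k2.symm, g2]
  · rw [Perm.inv_eq_iff_eq.2 k3.symm, g3]
  · rw [Perm.inv_eq_iff_eq.2 k4.symm, g4]

/-- Two regular four-groups configuration on seven points. -/
structure Frame (G : Subgroup (Perm α)) where
  u : Perm α
  v : Perm α
  a₁ : α
  a₂ : α
  a₃ : α
  a₄ : α
  e : α
  x : α
  y : α
  hu : u ∈ G
  hv : v ∈ G
  uu : u * u = 1
  vv : v * v = 1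
  uv : u * v = v * u
  nodup : [a₁, a₂, a₃, a₄, e, x, y].Nodup
  fu : fx u = {a₃, a₄, e}
  fv : fx v = {a₁, a₂, e}
  ft : fx (u * v) = {e, x, y}
  ua₁ : u a₁ = a₂
  ua₂ : u a₂ = a₁
  va₃ : v a₃ = a₄
  va₄ : v a₄ = a₃
  ux : u x = y
  uy : u y = x

theorem exists_frame {G : Subgroup (Perm α)} (H : Hyp G) (hn : 8 ≤ Fintype.card α)
    (hodd : Odd (Fintype.card α)) : Nonempty (Frame G) := by
  have hn2 : Fintype.card α % 2 = 1 := Nat.odd_iff.1 hodd
  obtain ⟨a, -, b, -, c, -, d, -, h4⟩ := exists_four (s := (Finset.univ : Finset α))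
    (by rw [Finset.card_univ]; omega)
  obtain ⟨u, hu, v, hv, uu, vv, uv, ⟨ua, ub, uc, ud⟩, ⟨va, vb, vc, vd⟩⟩ := H.exists_pair h4
  obtain ⟨hab, hac, had, hbc, hbd, hcd⟩ := h4
  have hu1 : u ≠ 1 := fun h => hab (by rw [← ua, h, Perm.one_apply])
  have hv1 : v ≠ 1 := fun h => hcd (by rw [← vc, h, Perm.one_apply])
  have huv1 : u * v ≠ 1 := fun h => hab (by
    have := congrArg (fun w : Perm α => w a) h
    simp [va, ua] at this
    exact this.symm)
  have T1 := H.card_fx_le hu uu hu1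
  have T2 := H.card_fx_le hv vv hv1
  have P1 := fx_parity uu
  have P2 := fx_parity vv
  have h34 : ({c, d} : Finset α) ⊆ fx u := by intro z; simp; rintro (rfl | rfl) <;> assumption
  have h12 : ({a, b} : Finset α) ⊆ fx v := by intro z; simp; rintro (rfl | rfl) <;> assumption
  have c1 := Finset.card_le_card h34
  rw [Finset.card_pair hcd] at c1
  have c2 := Finset.card_le_card h12
  rw [Finset.card_pair hab] at c2
  have U3 : (fx u).card = 3 := by omega
  have V3 : (fx v).card = 3 := by omega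
  obtain ⟨e, he⟩ : ∃ e, fx u \ {c, d} = {e} := Finset.card_eq_one.1 (by
    rw [Finset.card_sdiff_of_subset h34, Finset.card_pair hcd, U3])
  have heu : e ∈ fx u ∧ e ≠ c ∧ e ≠ d := by
    have : e ∈ fx u \ {c, d} := by rw [he]; simp
    simpa [not_or] using this
  have hfu : fx u = {c, d, e} := by
    rw [← Finset.union_sdiff_of_subset h34, he]; ext z; simp [or_assoc]
  have hve : v e = e := by
    have hz : v e ∈ fx u := by rw [mem_fx, comm_apply uv, mem_fx.1 heu.1]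
    rw [hfu] at hz
    simp only [Finset.mem_insert, Finset.mem_singleton] at hz
    rcases hz with h | h | h
    · exact absurd (v.injective (h.trans vd.symm)) heu.2.2
    · exact absurd (v.injective (h.trans vc.symm)) heu.2.1
    · exact h
  have hea : e ≠ a := fun h => hab (by rw [← ua, ← h, mem_fx.1 heu.1])
  have heb : e ≠ b := fun h => hab (by
    have := mem_fx.1 heu.1; rw [h, ub] at this; exact this)
  have hfv : fx v = {a, b, e} := by
    refine (Finset.eq_of_subset_of_card_le ?_ ?_).symm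
    · intro z; simp; rintro (rfl | rfl | rfl) <;> assumption
    · rw [V3, Finset.card_eq_three.2 ⟨a, b, e, hab, hea.symm, heb.symm, rfl⟩]
  have uve : e ∈ fx (u * v) := by simp [hve, mem_fx.1 heu.1]
  -- a regular orbit
  obtain ⟨p, -, hp⟩ := Finset.exists_mem_notMem_of_card_lt_card
    (s := fx u ∪ fx v ∪ fx (u * v)) (t := Finset.univ) (by
      rw [Finset.card_univ]
      have := Finset.card_union_le (fx u ∪ fx v) (fx (u * v))
      have := Finset.card_union_add_card_inter (fx u) (fx v)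
      have : 1 ≤ (fx u ∩ fx v).card :=
        Finset.card_pos.2 ⟨e, Finset.mem_inter.2 ⟨heu.1, mem_fx.2 hve⟩⟩
      have := H.card_fx_le (mul_mem hu hv) (mul_involutive uu vv uv) huv1
      omega)
  simp only [Finset.mem_union, not_or] at hp
  have F := Four.of_not_fixed hu hv uu vv uv hp.1.1 hp.1.2 hp.2
  have T3 : (fx (u * v)).card = 3 := by rw [← (H.card_fx_rot F).2]; exact V3
  obtain ⟨x, y, hxy, hset⟩ := Finset.card_eq_two.1
    (show ((fx (u * v)).erase e).card = 2 by rw [Finset.card_erase_of_mem uve, T3])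
  have hft : fx (u * v) = {e, x, y} := by rw [← Finset.insert_erase uve, hset]
  have mx : x ≠ e ∧ u (v x) = x := by
    have : x ∈ (fx (u * v)).erase e := by rw [hset]; simp
    simpa using this
  have my : y ≠ e ∧ u (v y) = y := by
    have : y ∈ (fx (u * v)).erase e := by rw [hset]; simp
    simpa using this
  have huvx : ∀ z, u (v z) = z → z ≠ e → z ≠ a ∧ z ≠ b ∧ z ≠ c ∧ z ≠ d ∧ u z ≠ z := by
    intro z hz hze
    have hz' : u z ≠ z := fun h => by
      have h' : v z = z := u.injective (hz.trans h.symm)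
      have h1 : z ∈ fx u := mem_fx.2 h
      have h2 : z ∈ fx v := mem_fx.2 h'
      rw [hfu] at h1; rw [hfv] at h2
      simp only [Finset.mem_insert, Finset.mem_singleton] at h1 h2
      rcases h1 with rfl | rfl | rfl <;> rcases h2 with h | h | h <;>
        first | exact hze rfl | exact hze h | simp_all
    refine ⟨?_, ?_, ?_, ?_, hz'⟩ <;> rintro rfl
    · rw [va, ua] at hz; exact hab hz.symm
    · rw [vb, ub] at hz; exact hab hz
    · exact hz' uc
    · exact hz' ud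
  obtain ⟨xa, xb, xc, xd, uxx⟩ := huvx x mx.2 mx.1
  obtain ⟨ya, yb, yc, yd, uyy⟩ := huvx y my.2 my.1
  have hux : u x = y := by
    have h : u x ∈ fx (u * v) := by
      rw [mem_fx, Perm.mul_apply, ← comm_apply uv, mx.2]
    rw [hft] at h
    simp only [Finset.mem_insert, Finset.mem_singleton] at h
    rcases h with h | h | h
    · exact absurd (u.injective (h.trans (mem_fx.1 heu.1).symm)) mx.1
    · exact absurd h uxx
    · exact h
  refine ⟨⟨u, v, a, b, c, d, e, x, y, hu, hv, uu, vv, uv, ?_, hfu, hfv, hft, ua, ub, vc, vd, hux,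
    by rw [← hux, apply_apply uu]⟩⟩
  simp [List.nodup_cons, hab, hac, had, hbc, hbd, hcd, hea.symm, heb.symm, Ne.symm heu.2.1,
    Ne.symm heu.2.2, Ne.symm xa, Ne.symm ya, Ne.symm xb, Ne.symm yb, Ne.symm xc, Ne.symm yc,
    Ne.symm xd, Ne.symm yd, Ne.symm mx.1, Ne.symm my.1, hxy]

namespace Frame

variable {G : Subgroup (Perm α)} (D : Frame G)

/-- The seven special points. -/
def S : Finset α := {D.a₁, D.a₂, D.a₃, D.a₄, D.e, D.x, D.y}

theorem card_S : D.S.card = 7 := by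
  have h := D.nodup
  have : D.S = [D.a₁, D.a₂, D.a₃, D.a₄, D.e, D.x, D.y].toFinset := by simp [S]
  rw [this, List.toFinset_card_of_nodup h]; rfl

theorem mem_S {z : α} : z ∈ D.S ↔ z ∈ fx D.u ∨ z ∈ fx D.v ∨ z ∈ fx (D.u * D.v) := by
  rw [D.fu, D.fv, D.ft]; simp only [S, Finset.mem_insert, Finset.mem_singleton]; tauto

theorem four {p : α} (hp : p ∉ D.S) : Four G D.u D.v p := by
  simp only [D.mem_S, not_or] at hp
  exact Four.of_not_fixed D.hu D.hv D.uu D.vv D.uv hp.1 hp.2.1 hp.2.2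

theorem dists : D4 D.a₁ D.a₂ D.a₃ D.a₄ := by
  have h := D.nodup
  simp [List.nodup_cons] at h
  simp [D4, h]

theorem dists' : D4 D.a₁ D.a₃ D.a₂ D.a₄ := by
  have h := D.nodup
  simp [List.nodup_cons] at h
  simp [D4, h, Ne.symm]

theorem base :
    D.u D.a₃ = D.a₃ ∧ D.u D.a₄ = D.a₄ ∧ D.u D.e = D.e ∧ D.v D.a₁ = D.a₁ ∧ D.v D.a₂ = D.a₂ ∧
      D.v D.e = D.e ∧ D.v D.x = D.y ∧ D.v D.y = D.x := by
  have hu : ∀ z ∈ ({D.a₃, D.a₄, D.e} : Finset α), D.u z = z := fun z hz => mem_fx.1 (D.fu ▸ hz)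
  have hv : ∀ z ∈ ({D.a₁, D.a₂, D.e} : Finset α), D.v z = z := fun z hz => mem_fx.1 (D.fv ▸ hz)
  have ht : ∀ z ∈ ({D.e, D.x, D.y} : Finset α), D.u (D.v z) = z := fun z hz => by
    have h := mem_fx.1 (D.ft.symm ▸ hz : z ∈ fx (D.u * D.v))
    rwa [Perm.mul_apply] at h
  refine ⟨hu _ (by simp), hu _ (by simp), hu _ (by simp), hv _ (by simp), hv _ (by simp),
    hv _ (by simp), ?_, ?_⟩
  · exact D.u.injective (by rw [ht _ (by simp), D.uy])
  · exact D.u.injective (by rw [ht _ (by simp), D.ux])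

theorem eval :
    (∀ z ∈ D.S, D.u z ∈ D.S ∧ D.v z ∈ D.S) := fun z hz => by
  obtain ⟨u3, u4, ue, v1, v2, ve, vx, vy⟩ := D.base
  simp only [S, Finset.mem_insert, Finset.mem_singleton] at hz ⊢
  rcases hz with rfl | rfl | rfl | rfl | rfl | rfl | rfl <;>
    simp [D.ua₁, D.ua₂, u3, u4, ue, D.ux, D.uy, v1, v2, D.va₃, D.va₄, ve, vx, vy]

end Frame

/-- Two commuting double transpositions on the special points with two common fixed points. -/
theorem Frame.no_double {G : Subgroup (Perm α)} (D : Frame G) (H : Hyp G)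
    (hn : 8 ≤ Fintype.card α) {g₁ g₂ : Perm α} (h₁ : g₁ ∈ G) (h₂ : g₂ ∈ G)
    (hS₁ : ∀ z ∈ D.S, g₁ z ∈ D.S) (hS₂ : ∀ z ∈ D.S, g₂ z ∈ D.S)
    (sq₁ : ∀ z ∈ D.S, g₁ (g₁ z) = z) (sq₂ : ∀ z ∈ D.S, g₂ (g₂ z) = z)
    (hcomm : ∀ z ∈ D.S, g₁ (g₂ z) = g₂ (g₁ z)) {c d : α} (hc : c ∈ D.S) (hd : d ∈ D.S)
    (hcd : c ≠ d) (c₁ : g₁ c = c) (d₁ : g₁ d = d) (c₂ : g₂ c = c) (d₂ : g₂ d = d)
    (m₁ : ∃ z ∈ D.S, g₁ z ≠ z) (m₂ : ∃ z ∈ D.S, g₂ z ≠ z) (m₃ : ∃ z ∈ D.S, g₁ (g₂ z) ≠ z) :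
    False := by
  have q1 : D.a₁ ∈ D.S := by simp [Frame.S]
  have q2 : D.a₂ ∈ D.S := by simp [Frame.S]
  have q3 : D.a₃ ∈ D.S := by simp [Frame.S]
  have q4 : D.a₄ ∈ D.S := by simp [Frame.S]
  obtain ⟨s, hs, ss, -, hsx⟩ := H.twoPart h₁ D.dists (sq₁ _ q1) (sq₁ _ q2) (sq₁ _ q3) (sq₁ _ q4)
  obtain ⟨r, hr, rr, -, hrx⟩ := H.twoPart h₂ D.dists (sq₂ _ q1) (sq₂ _ q2) (sq₂ _ q3) (sq₂ _ q4)
  have hsS : ∀ z ∈ D.S, s z = g₁ z := fun z hz => hsx z (sq₁ z hz)
  have hrS : ∀ z ∈ D.S, r z = g₂ z := fun z hz => hrx z (sq₂ z hz)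
  have hsr : ∀ z ∈ D.S, s (r (s (r z))) = z := fun z hz => by
    rw [hrS z hz, hsS _ (hS₂ z hz), hrS _ (hS₁ _ (hS₂ z hz)), hsS _ (hS₂ _ (hS₁ _ (hS₂ z hz))),
      ← hcomm _ (hS₂ z hz), sq₂ z hz, sq₁ z hz]
  obtain ⟨w, hw, ww, hsw, hwx⟩ := H.commPart hs hr ss rr D.dists (hsr _ q1) (hsr _ q2) (hsr _ q3)
    (hsr _ q4)
  have hwS : ∀ z ∈ D.S, w z = g₁ (g₂ z) := fun z hz => by
    rw [hwx z (hsr z hz), hrS z hz, hsS _ (hS₂ z hz)]
  have hs1 : s ≠ 1 := fun h => by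
    obtain ⟨z, hz, hne⟩ := m₁
    exact hne (by rw [← hsS z hz, h, Perm.one_apply])
  have hw1 : w ≠ 1 := fun h => by
    obtain ⟨z, hz, hne⟩ := m₃
    exact hne (by rw [← hwS z hz, h, Perm.one_apply])
  have heq := H.eq_of_common hn hs hw ss ww hs1 hw1 hsw hcd (by rw [hsS c hc, c₁])
    (by rw [hsS d hd, d₁]) (by rw [hwS c hc, c₂, c₁]) (by rw [hwS d hd, d₂, d₁])
  obtain ⟨z, hz, hne⟩ := m₂
  apply hne
  have := hsS z hz
  rw [heq, hwS z hz] at this
  exact g₁.injective this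

end CfsgLib.HallFour
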