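import Cfsg.Agent.HallFour.Odd

/-!
An odd number of points greater than `11` is impossible.
-/

set_option autoImplicit false
set_option linter.unusedSectionVars false
set_option linter.style.haveILetI false

namespace CfsgLib.HallFour

open Equiv MulAction

variable {α : Type*} [Fintype α] [DecidableEq α]

theorem inter_apply {g a b : Perm α} (h : g * a = b * g) (z : α) : g (a z) = b (g z) := by
  rw [← Perm.mul_apply, h, Perm.mul_apply]

namespace Frame

variable {G : Subgroup (Perm α)} (D : Frame G)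

/-- The elements fixing all seven special points. -/
def kerS : Subgroup (Perm α) := G ⊓ ⨅ z ∈ D.S, stabilizer (Perm α) z

theorem mem_kerS {g : Perm α} : g ∈ D.kerS ↔ g ∈ G ∧ ∀ z ∈ D.S, g z = z := by
  simp [kerS, Subgroup.mem_iInf]

/-- The elements of the four-point stabilizer centralizing the four-group. -/
def centR : Subgroup (Perm α) :=
  G ⊓ stabilizer (Perm α) D.a₁ ⊓ stabilizer (Perm α) D.a₃ ⊓
    Subgroup.centralizer ({D.u, D.v} : Set (Perm α))

theorem mem_centR {g : Perm α} : g ∈ D.centR ↔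
    g ∈ G ∧ g D.a₁ = D.a₁ ∧ g D.a₃ = D.a₃ ∧ g * D.u = D.u * g ∧ g * D.v = D.v * g := by
  simp only [centR, Subgroup.mem_inf, mem_stabilizer_iff, Perm.smul_def,
    Subgroup.mem_centralizer_iff, Set.mem_insert_iff, Set.mem_singleton_iff, forall_eq_or_imp,
    forall_eq, eq_comm (a := D.u * g), eq_comm (a := D.v * g), and_assoc]

theorem centR_le (H : Hyp G) : D.centR ≤ D.kerS := fun g hg => by
  obtain ⟨hgG, g1, g3, gu, gv⟩ := D.mem_centR.1 hg
  obtain ⟨u3, u4, ue, v1, v2, ve, vx, vy⟩ := D.base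
  have g2 : g D.a₂ = D.a₂ := by rw [← D.ua₁, comm_apply gu, g1]
  have g4 : g D.a₄ = D.a₄ := by rw [← D.va₃, comm_apply gv, g3]
  have ho := H.odd g hgG _ _ _ _ D.dists g1 g2 g3 g4
  have hd := D.nodup
  simp [List.nodup_cons] at hd
  have ge : g D.e = D.e := by
    have h : g D.e ∈ fx D.u := by rw [mem_fx, ← comm_apply gu, ue]
    rw [D.fu] at h
    simp only [Finset.mem_insert, Finset.mem_singleton] at h
    rcases h with h | h | h
    · exact absurd (g.injective (h.trans g3.symm)) (by tauto)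
    · exact absurd (g.injective (h.trans g4.symm)) (by tauto)
    · exact h
  have gt : ∀ z ∈ fx (D.u * D.v), g z ∈ fx (D.u * D.v) := fun z hz => by
    rw [mem_fx] at hz ⊢
    have : g * (D.u * D.v) = D.u * D.v * g := by rw [← mul_assoc, gu, mul_assoc, gv, mul_assoc]
    rw [← comm_apply this, hz]
  have hxy : ∀ z, z = D.x ∨ z = D.y → g z = D.x ∨ g z = D.y := fun z hz => by
    have hmem : z ∈ fx (D.u * D.v) := by rw [D.ft]; rcases hz with rfl | rfl <;> simp
    have h := gt z hmem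
    rw [D.ft] at h
    simp only [Finset.mem_insert, Finset.mem_singleton] at h
    rcases h with h | h
    · have := g.injective (h.trans ge.symm)
      rcases hz with rfl | rfl <;> simp_all
    · exact h
  have gx : g D.x = D.x := fix_of_two ho (hxy _ (Or.inl rfl)) (hxy _ (Or.inr rfl))
  have gy : g D.y = D.y := fix_of_two ho (hxy _ (Or.inr rfl)).symm (hxy _ (Or.inl rfl)).symm
  refine D.mem_kerS.2 ⟨hgG, fun z hz => ?_⟩
  simp only [S, Finset.mem_insert, Finset.mem_singleton] at hz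
  rcases hz with rfl | rfl | rfl | rfl | rfl | rfl | rfl <;> assumption

/-- The four elements of the four-group. -/
def Vs : Set (Perm α) := {1, D.u, D.v, D.u * D.v}

theorem Vs_apply {g : Perm α} (hg : g ∈ D.centR) {w : Perm α} (hw : w ∈ D.Vs) (z : α) :
    g (w z) = w (g z) := by
  obtain ⟨-, -, -, gu, gv⟩ := D.mem_centR.1 hg
  rcases hw with rfl | rfl | rfl | rfl
  · rfl
  · exact comm_apply gu z
  · exact comm_apply gv z
  · rw [Perm.mul_apply, Perm.mul_apply, comm_apply gu, comm_apply gv]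

/-- The centralizer of the four-group is transitive on its regular orbits. -/
theorem exists_centR (H : Hyp G) {p q : α} (hp : p ∉ D.S) (hq : q ∉ D.S) :
    ∃ w ∈ D.Vs, ∃ r ∈ D.centR, q = w (r p) := by
  obtain ⟨g, hg, gu, gv, gp⟩ := H.conj_four (D.four hp) (D.four hq)
  rw [mul_inv_eq_iff_eq_mul] at gu gv
  obtain ⟨u3, u4, ue, v1, v2, ve, vx, vy⟩ := D.base
  have hd := D.nodup
  simp [List.nodup_cons] at hd
  have ge : g D.e = D.e := by
    have h1 : g D.e ∈ fx D.u ∧ g D.e ∈ fx D.v := by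
      constructor
      · rw [mem_fx, ← comm_apply gu, ue]
      · rw [mem_fx, ← comm_apply gv, ve]
    rw [D.fu, D.fv] at h1
    simp only [Finset.mem_insert, Finset.mem_singleton] at h1
    rcases h1.1 with h | h | h <;> rcases h1.2 with h' | h' | h' <;>
      first | exact h | exact h' | (exfalso; rw [h] at h'; tauto)
  have g1 : g D.a₁ = D.a₁ ∨ g D.a₁ = D.a₂ := by
    have h : g D.a₁ ∈ fx D.v := by rw [mem_fx, ← comm_apply gv, v1]
    rw [D.fv] at h
    simp only [Finset.mem_insert, Finset.mem_singleton] at h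
    rcases h with h | h | h
    · exact Or.inl h
    · exact Or.inr h
    · exact absurd (g.injective (h.trans ge.symm)) (by tauto)
  have g3 : g D.a₃ = D.a₃ ∨ g D.a₃ = D.a₄ := by
    have h : g D.a₃ ∈ fx D.u := by rw [mem_fx, ← comm_apply gu, u3]
    rw [D.fu] at h
    simp only [Finset.mem_insert, Finset.mem_singleton] at h
    rcases h with h | h | h
    · exact Or.inl h
    · exact Or.inr h
    · exact absurd (g.injective (h.trans ge.symm)) (by tauto)
  have key : ∀ w ∈ D.Vs, w * w = 1 → w ∈ G → w (g D.a₁) = D.a₁ → w (g D.a₃) = D.a₃ →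
      w * D.u = D.u * w → w * D.v = D.v * w → ∃ w ∈ D.Vs, ∃ r ∈ D.centR, q = w (r p) :=
    fun w hw ww hwG h1 h3 wu wv => ⟨w, hw, w * g, D.mem_centR.2 ⟨mul_mem hwG hg, h1, h3,
      by rw [mul_assoc, gu, ← mul_assoc, wu, mul_assoc],
      by rw [mul_assoc, gv, ← mul_assoc, wv, mul_assoc]⟩,
      by rw [Perm.mul_apply, apply_apply ww, gp]⟩
  rcases g1 with g1 | g1 <;> rcases g3 with g3 | g3
  · exact key 1 (Or.inl rfl) (one_mul 1) (one_mem G) (by simp [g1]) (by simp [g3]) (by simp)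
      (by simp)
  · exact key D.v (Or.inr (Or.inr (Or.inl rfl))) D.vv D.hv (by rw [g1, v1]) (by rw [g3, D.va₄])
      D.uv.symm rfl
  · exact key D.u (Or.inr (Or.inl rfl)) D.uu D.hu (by rw [g1, D.ua₂]) (by rw [g3, u3]) rfl D.uv
  · exact key (D.u * D.v) (Or.inr (Or.inr (Or.inr rfl))) (mul_involutive D.uu D.vv D.uv)
      (mul_mem D.hu D.hv) (by rw [g1, Perm.mul_apply, v2, D.ua₂])
      (by rw [g3, Perm.mul_apply, D.va₄, u3]) (by rw [mul_assoc, ← D.uv])
      (by rw [mul_assoc, D.vv, mul_one, ← mul_assoc, ← D.uv, mul_assoc, D.vv, mul_one])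

/-- A group fixing exactly the special points. -/
theorem exists_moving (H : Hyp G) (hn : 11 < Fintype.card α) :
    ∃ ℓ : ℕ, ℓ.Prime ∧ ∃ P : Subgroup (Perm α), IsPGroup ℓ P ∧ P ≤ D.kerS ∧
      ∀ z, (∀ q ∈ P, q z = z) → z ∈ D.S := by
  obtain ⟨p, -, hp⟩ := Finset.exists_mem_notMem_of_card_lt_card (s := D.S) (t := Finset.univ)
    (by rw [Finset.card_univ, D.card_S]; omega)
  set T := stabilizer D.centR p with hT
  have hidx : T.index ≠ 1 := by
    intro h
    rw [Subgroup.index_eq_one] at h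
    obtain ⟨q, -, hq⟩ := Finset.exists_mem_notMem_of_card_lt_card
      (s := D.S ∪ {p, D.u p, D.v p, D.u (D.v p)}) (t := Finset.univ)
      (by
        rw [Finset.card_univ]
        have := Finset.card_union_le D.S {p, D.u p, D.v p, D.u (D.v p)}
        have := D.card_S
        have := Finset.card_le_four (a := p) (b := D.u p) (c := D.v p) (d := D.u (D.v p))
        omega)
    simp only [Finset.mem_union, Finset.mem_insert, Finset.mem_singleton, not_or] at hq
    obtain ⟨w, hw, r, hr, rfl⟩ := D.exists_centR H hp hq.1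
    have hrp : r p = p := by
      have : (⟨r, hr⟩ : D.centR) ∈ T := h ▸ Subgroup.mem_top _
      exact this
    rw [hrp] at hq
    rcases hw with rfl | rfl | rfl | rfl
    · exact hq.2.1 rfl
    · exact hq.2.2.1 rfl
    · exact hq.2.2.2.1 rfl
    · exact hq.2.2.2.2 rfl
  obtain ⟨ℓ, hℓ, hdvd⟩ := Nat.exists_prime_and_dvd hidx
  haveI : Fact ℓ.Prime := ⟨hℓ⟩
  obtain ⟨P⟩ : Nonempty (Sylow ℓ D.centR) := inferInstance
  refine ⟨ℓ, hℓ, (P : Subgroup D.centR).map D.centR.subtype, P.2.map _,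
    (Subgroup.map_subtype_le _).trans (D.centR_le H), fun z hz => ?_⟩
  by_contra hzS
  obtain ⟨w, hw, r, hr, rfl⟩ := D.exists_centR H hp hzS
  have hle : (P : Subgroup D.centR) ≤ stabilizer D.centR ((⟨r, hr⟩ : D.centR) • p) := fun x hx => by
    have h := hz _ ⟨x, hx, rfl⟩
    simp only [Subgroup.coe_subtype] at h
    rw [D.Vs_apply x.2 hw] at h
    exact w.injective h
  have h1 := Subgroup.index_dvd_of_le hle
  rw [stabilizer_smul_eq_stabilizer_map_conj,
    Subgroup.index_map_of_bijective (MulAut.conj _).bijective] at h1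
  exact P.not_dvd_index (hdvd.trans h1)

theorem false_of_transitive (H : Hyp G) (hn : 8 ≤ Fintype.card α) {l : Perm α} (hl : l ∈ G)
    (hS : ∀ z ∈ D.S, l z ∈ D.S) (l1 : l D.a₁ = D.a₁) (l2 : l D.a₂ = D.a₃) (l3 : l D.a₃ = D.a₂)
    (l4 : l D.a₄ = D.a₄) : False := by
  obtain ⟨u3, u4, ue, v1, v2, ve, vx, vy⟩ := D.base
  set t := D.u * D.v with ht
  have t1 : t D.a₁ = D.a₂ := by rw [ht, Perm.mul_apply, v1, D.ua₁]
  have t2 : t D.a₂ = D.a₁ := by rw [ht, Perm.mul_apply, v2, D.ua₂]
  have t3 : t D.a₃ = D.a₄ := by rw [ht, Perm.mul_apply, D.va₃, u4]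
  have t4 : t D.a₄ = D.a₃ := by rw [ht, Perm.mul_apply, D.va₄, u3]
  have te : t D.e = D.e := by rw [ht, Perm.mul_apply, ve, ue]
  have tx : t D.x = D.x := by rw [ht, Perm.mul_apply, vx, D.uy]
  have ty : t D.y = D.y := by rw [ht, Perm.mul_apply, vy, D.ux]
  set s := l * t * l⁻¹ with hs
  have hsl : ∀ z, s (l z) = l (t z) := fun z => by simp [hs]
  have s1 : s D.a₁ = D.a₃ := by conv_lhs => rw [← l1, hsl, t1, l2]
  have s2 : s D.a₂ = D.a₄ := by conv_lhs => rw [← l3, hsl, t3, l4]
  have s3 : s D.a₃ = D.a₁ := by conv_lhs => rw [← l2, hsl, t2, l1]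
  have s4 : s D.a₄ = D.a₂ := by conv_lhs => rw [← l4, hsl, t4, l3]
  have sfix : ∀ z ∈ D.S, z ≠ D.a₁ → z ≠ D.a₂ → z ≠ D.a₃ → z ≠ D.a₄ → s z = z := by
    intro z hz n1 n2 n3 n4
    obtain ⟨z', hz', rfl⟩ : ∃ z' ∈ D.S, l z' = z := by
      have : z ∈ D.S.image l := by
        rwa [Finset.eq_of_subset_of_card_le (Finset.image_subset_iff.2 hS)
          (by rw [Finset.card_image_of_injective _ l.injective])]
      simpa using this
    rw [hsl]
    simp only [S, Finset.mem_insert, Finset.mem_singleton] at hz'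
    rcases hz' with rfl | rfl | rfl | rfl | rfl | rfl | rfl
    · exact absurd l1 n1
    · exact absurd l2 n3
    · exact absurd l3 n2
    · exact absurd l4 n4
    · rw [te]
    · rw [tx]
    · rw [ty]
  have hd := D.nodup
  simp [List.nodup_cons] at hd
  have ee : D.e ∈ D.S := by simp [S]
  have xx : D.x ∈ D.S := by simp [S]
  have yy : D.y ∈ D.S := by simp [S]
  have se : s D.e = D.e := sfix _ ee (Ne.symm (by tauto)) (Ne.symm (by tauto)) (Ne.symm (by tauto))
    (Ne.symm (by tauto))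
  have sx : s D.x = D.x := sfix _ xx (Ne.symm (by tauto)) (Ne.symm (by tauto)) (Ne.symm (by tauto))
    (Ne.symm (by tauto))
  have sy : s D.y = D.y := sfix _ yy (Ne.symm (by tauto)) (Ne.symm (by tauto)) (Ne.symm (by tauto))
    (Ne.symm (by tauto))
  refine D.no_double H hn (g₁ := t) (g₂ := s) (mul_mem D.hu D.hv)
    (mul_mem (mul_mem hl (mul_mem D.hu D.hv)) (inv_mem hl)) ?_ ?_ ?_ ?_ ?_ xx yy (by tauto) tx ty
    sx sy ⟨D.a₁, by simp [S], by rw [t1]; exact D.dists.1.symm⟩
    ⟨D.a₁, by simp [S], by rw [s1]; exact D.dists.2.1.symm⟩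
    ⟨D.a₁, by simp [S], by rw [s1, t3]; exact D.dists.2.2.1.symm⟩
  all_goals
    intro z hz
    simp only [S, Finset.mem_insert, Finset.mem_singleton] at hz ⊢
    rcases hz with rfl | rfl | rfl | rfl | rfl | rfl | rfl <;>
      simp only [t1, t2, t3, t4, te, tx, ty, s1, s2, s3, s4, se, sx, sy, true_or, or_true]

theorem false_of_cycle (H : Hyp G) (hn : 8 ≤ Fintype.card α) {h : Perm α} (hh : h ∈ G)
    (h1 : h D.a₁ = D.a₁) (h2 : h D.a₂ = D.a₂) (h3 : h D.a₃ = D.a₃) (h4 : h D.a₄ = D.a₄)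
    (hx : h D.x = D.y) (hy : h D.y = D.e) (he : h D.e = D.x) : False := by
  obtain ⟨u3, u4, ue, v1, v2, ve, vx, vy⟩ := D.base
  have hd := D.nodup
  simp [List.nodup_cons] at hd
  obtain ⟨p, -, hp⟩ := Finset.exists_mem_notMem_of_card_lt_card (s := D.S) (t := Finset.univ)
    (by rw [Finset.card_univ, D.card_S]; omega)
  obtain ⟨g, hg, gu, gv, -⟩ := H.conj_four (D.four hp) (D.four hp).rot
  rw [mul_inv_eq_iff_eq_mul] at gu gv
  have imu : ∀ z, D.u z = z → g z ∈ fx D.v := fun z hz => by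
    rw [mem_fx, ← inter_apply gu, hz]
  have imv : ∀ z, D.v z = z → g z ∈ fx (D.u * D.v) := fun z hz => by
    rw [mem_fx, ← inter_apply gv, hz]
  have imt : ∀ z, (D.u * D.v) z = z → g z ∈ fx D.u := fun z hz => by
    have e1 : g * (D.u * D.v) = D.u * g := by
      rw [← mul_assoc, gu, mul_assoc, gv, ← mul_assoc D.v, ← mul_assoc D.v, ← D.uv,
        mul_assoc D.u, D.vv, mul_one]
    rw [mem_fx, ← inter_apply e1, hz]
  have ge : g D.e = D.e := by
    have a := imu _ ue
    have b := imv _ ve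
    rw [D.fv] at a; rw [D.ft] at b
    simp only [Finset.mem_insert, Finset.mem_singleton] at a b
    rcases a with a | a | a <;> rcases b with b | b | b <;>
      first | exact a | exact b | (exfalso; rw [a] at b; tauto)
  have pr : ∀ z w, z ≠ D.e → g z = w → w ≠ D.e := fun z w hz hw h =>
    hz (g.injective (by rw [hw, h, ge]))
  have txy : (D.u * D.v) D.x = D.x ∧ (D.u * D.v) D.y = D.y := by
    constructor <;> simp [vx, vy, D.ux, D.uy]
  have g12 : ∀ z, (z = D.a₁ ∨ z = D.a₂) → g z = D.x ∨ g z = D.y := fun z hz => by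
    have a := imv z (by rcases hz with rfl | rfl <;> assumption)
    rw [D.ft] at a
    simp only [Finset.mem_insert, Finset.mem_singleton] at a
    rcases a with a | a
    · exact absurd a (pr z _ (by rcases hz with rfl | rfl <;> tauto) rfl)
    · exact a
  have g34 : ∀ z, (z = D.a₃ ∨ z = D.a₄) → g z = D.a₁ ∨ g z = D.a₂ := fun z hz => by
    have a := imu z (by rcases hz with rfl | rfl <;> assumption)
    rw [D.fv] at a
    simp only [Finset.mem_insert, Finset.mem_singleton] at a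
    rcases a with a | a | a
    · exact Or.inl a
    · exact Or.inr a
    · exact absurd a (pr z _ (by rcases hz with rfl | rfl <;> tauto) rfl)
  have gxy : ∀ z, (z = D.x ∨ z = D.y) → g z = D.a₃ ∨ g z = D.a₄ := fun z hz => by
    have a := imt z (by rcases hz with rfl | rfl; exacts [txy.1, txy.2])
    rw [D.fu] at a
    simp only [Finset.mem_insert, Finset.mem_singleton] at a
    rcases a with a | a | a
    · exact Or.inl a
    · exact Or.inr a
    · exact absurd a (pr z _ (by rcases hz with rfl | rfl <;> tauto) rfl)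
  have gne : ∀ {z w : α}, z ≠ w → g z ≠ g w := fun hne h => hne (g.injective h)
  set c := g * h * g⁻¹ with hc
  have hcz : ∀ z, c (g z) = g (h z) := fun z => by simp [hc]
  have cfix : c D.a₁ = D.a₁ ∧ c D.a₂ = D.a₂ ∧ c D.x = D.x ∧ c D.y = D.y := by
    have e1 := g34 D.a₃ (Or.inl rfl)
    have e2 := g34 D.a₄ (Or.inr rfl)
    have e3 := g12 D.a₁ (Or.inl rfl)
    have e4 := g12 D.a₂ (Or.inr rfl)
    have k1 := hcz D.a₁; have k2 := hcz D.a₂; have k3 := hcz D.a₃; have k4 := hcz D.a₄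
    rw [h1] at k1; rw [h2] at k2; rw [h3] at k3; rw [h4] at k4
    have n1 := gne (show D.a₃ ≠ D.a₄ by tauto)
    have n2 := gne (show D.a₁ ≠ D.a₂ by tauto)
    rcases e1 with e1 | e1 <;> rcases e2 with e2 | e2 <;> rcases e3 with e3 | e3 <;>
      rcases e4 with e4 | e4 <;> simp_all
  obtain ⟨c', hc', c'3, c'4, c'e, c'1, c'2, c'x, c'y⟩ : ∃ c' ∈ G, c' D.a₃ = D.a₄ ∧ c' D.a₄ = D.e ∧
      c' D.e = D.a₃ ∧ c' D.a₁ = D.a₁ ∧ c' D.a₂ = D.a₂ ∧ c' D.x = D.x ∧ c' D.y = D.y := by
    obtain ⟨q1, q2, qx, qy⟩ := cfix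
    have hcG : c ∈ G := mul_mem (mul_mem hg hh) (inv_mem hg)
    have n := gne (show D.x ≠ D.y by tauto)
    have kx := hcz D.x; have ky := hcz D.y; have ke := hcz D.e
    rw [hx] at kx; rw [hy] at ky; rw [he] at ke
    rw [ge] at ky ke
    rcases gxy D.x (Or.inl rfl) with e1 | e1 <;> rcases gxy D.y (Or.inr rfl) with e2 | e2
    · exact absurd (e1.trans e2.symm) n
    · rw [e1, e2] at kx; rw [e2] at ky; rw [e1] at ke
      exact ⟨c, hcG, kx, ky, ke, q1, q2, qx, qy⟩
    · rw [e1, e2] at kx; rw [e2] at ky; rw [e1] at ke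
      exact ⟨c⁻¹, inv_mem hcG, Perm.inv_eq_iff_eq.2 kx.symm, Perm.inv_eq_iff_eq.2 ke.symm,
        Perm.inv_eq_iff_eq.2 ky.symm, Perm.inv_eq_iff_eq.2 q1.symm, Perm.inv_eq_iff_eq.2 q2.symm,
        Perm.inv_eq_iff_eq.2 qx.symm, Perm.inv_eq_iff_eq.2 qy.symm⟩
    · exact absurd (e1.trans e2.symm) n
  set W := h * c' * h * c' * h with hW
  have W1 : W D.a₁ = D.a₁ := by simp [hW, h1, c'1]
  have W2 : W D.a₂ = D.a₂ := by simp [hW, h2, c'2]
  have W3 : W D.a₃ = D.x := by simp [hW, h3, c'3, h4, c'4, he]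
  have W4 : W D.a₄ = D.y := by simp [hW, h4, c'4, he, c'x, hx]
  have Wx : W D.x = D.a₃ := by simp [hW, hx, c'y, hy, c'e, h3]
  have Wy : W D.y = D.a₄ := by simp [hW, hy, c'e, h3, c'3, h4]
  have We : W D.e = D.e := by simp [hW, he, c'x, hx, c'y, hy]
  refine D.no_double H hn (g₁ := D.v) (g₂ := W) D.hv
    (mul_mem (mul_mem (mul_mem (mul_mem hh hc') hh) hc') hh) ?_ ?_ ?_ ?_ ?_
    (show D.a₁ ∈ D.S by simp [S]) (show D.a₂ ∈ D.S by simp [S]) (by tauto) v1 v2 W1 W2
    ⟨D.a₃, by simp [S], by rw [D.va₃]; exact D.dists.2.2.2.2.2.symm⟩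
    ⟨D.a₃, by simp [S], by rw [W3]; exact Ne.symm (by tauto)⟩
    ⟨D.a₃, by simp [S], by rw [W3, vx]; exact Ne.symm (by tauto)⟩
  all_goals
    intro z hz
    simp only [S, Finset.mem_insert, Finset.mem_singleton] at hz ⊢
    rcases hz with rfl | rfl | rfl | rfl | rfl | rfl | rfl <;>
      simp only [v1, v2, D.va₃, D.va₄, ve, vx, vy, W1, W2, W3, W4, Wx, Wy, We, true_or, or_true]

end Frame

theorem not_large {G : Subgroup (Perm α)} (H : Hyp G) (hodd : Odd (Fintype.card α))
    (hn : 11 < Fintype.card α) : False := by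
  obtain ⟨D⟩ := exists_frame H (by omega) hodd
  have hn8 : 8 ≤ Fintype.card α := by omega
  obtain ⟨ℓ, hℓ, P₀, hP₀, hle, hfix⟩ := D.exists_moving H hn
  haveI : Fact ℓ.Prime := ⟨hℓ⟩
  set K : Subgroup (Perm α) := G ⊓ stabilizer (Perm α) D.a₁ ⊓ stabilizer (Perm α) D.a₂ ⊓
    stabilizer (Perm α) D.a₃ ⊓ stabilizer (Perm α) D.a₄ with hK
  have hKmem : ∀ g : Perm α, g ∈ K ↔ g ∈ G ∧ g D.a₁ = D.a₁ ∧ g D.a₂ = D.a₂ ∧ g D.a₃ = D.a₃ ∧
      g D.a₄ = D.a₄ := fun g => by
    simp only [hK, Subgroup.mem_inf, mem_stabilizer_iff, Perm.smul_def, and_assoc]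
  have hQK : D.kerS ≤ K := fun g hg => by
    obtain ⟨hgG, hgS⟩ := D.mem_kerS.1 hg
    exact (hKmem g).2 ⟨hgG, hgS _ (by simp [Frame.S]), hgS _ (by simp [Frame.S]),
      hgS _ (by simp [Frame.S]), hgS _ (by simp [Frame.S])⟩
  have hPQ : IsPGroup ℓ (P₀.subgroupOf D.kerS) :=
    hP₀.comap_of_injective _ (Subgroup.subtype_injective _)
  obtain ⟨P₁, hP₁⟩ := hPQ.exists_le_sylow
  set P := (P₁ : Subgroup D.kerS).map D.kerS.subtype with hP
  have hPk : P ≤ D.kerS := Subgroup.map_subtype_le _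
  have h0 : P₀ ≤ P := fun q hq => ⟨⟨q, hle hq⟩, hP₁ hq, rfl⟩
  have hS : ∀ {z}, (∀ q ∈ P, q z = z) → z ∈ D.S := fun {z} hz => hfix z fun q hq => hz q (h0 hq)
  have hPS : ∀ {z}, z ∈ D.S → ∀ q ∈ P, q z = z := fun {z} hz q hq =>
    (D.mem_kerS.1 (hPk hq)).2 z hz
  have hPK : IsPGroup ℓ (P.subgroupOf K) :=
    (P₁.2.map _).comap_of_injective _ (Subgroup.subtype_injective _)
  obtain ⟨S, hPS'⟩ := hPK.exists_le_sylow
  by_cases heq : P.subgroupOf K = S
  · -- transitivity of the normalizer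
    have hSm : (S : Subgroup K).map K.subtype = P := by
      rw [← heq, Subgroup.map_subgroupOf_eq_of_le (hPk.trans hQK)]
    obtain ⟨l, hl, hnorm, l1, l2, l3, l4⟩ := witt H S D.dists D.dists' hKmem (fun q hq => by
      have : (q : Perm α) ∈ P := by
        have h : q ∈ P.subgroupOf K := heq.symm ▸ hq
        exact h
      exact ⟨hPS (by simp [Frame.S]) _ this, hPS (by simp [Frame.S]) _ this,
        hPS (by simp [Frame.S]) _ this, hPS (by simp [Frame.S]) _ this⟩)
    rw [hSm] at hnorm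
    exact D.false_of_transitive H hn8 hl (fun z hz => hS (map_fixed hnorm (hPS hz))) l1 l2 l3 l4
  · -- a three-cycle on the last three points
    have hlt : P.subgroupOf K < (S : Subgroup K) := lt_of_le_of_ne hPS' heq
    haveI : Group.IsNilpotent (S : Subgroup K) := S.2.isNilpotent
    have hlt' : (P.subgroupOf K).subgroupOf (S : Subgroup K) < ⊤ := lt_top_iff_ne_top.2 fun h =>
      hlt.not_ge (Subgroup.subgroupOf_eq_top.1 h)
    obtain ⟨s, hsn, hsP⟩ := SetLike.exists_of_lt
      (Group.normalizerCondition_of_isNilpotent _ hlt')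
    set h : Perm α := ((s : K) : Perm α) with hh
    obtain ⟨hhG, k1, k2, k3, k4⟩ := (hKmem h).1 (s : K).2
    have hnorm : ∀ q ∈ P, h⁻¹ * q * h ∈ P := fun q hq => by
      have hqK : q ∈ K := hQK (hPk hq)
      have hqS : (⟨q, hqK⟩ : K) ∈ (S : Subgroup K) := hPS' hq
      exact ((Subgroup.mem_normalizer_iff'').1 hsn ⟨⟨q, hqK⟩, hqS⟩).1 hq
    have hmap : ∀ z ∈ D.S, h z ∈ D.S := fun z hz => hS (map_fixed hnorm (hPS hz))
    have hd := D.nodup
    simp [List.nodup_cons] at hd
    obtain ⟨⟨n12, n13, n14, n1e, n1x, n1y⟩, ⟨n23, n24, n2e, n2x, n2y⟩, ⟨n34, n3e, n3x, n3y⟩,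
      ⟨n4e, n4x, n4y⟩, ⟨nex, ney⟩, nxy⟩ := hd
    have hxye : ∀ z, (z = D.e ∨ z = D.x ∨ z = D.y) → h z = D.e ∨ h z = D.x ∨ h z = D.y := by
      intro z hz
      have hzS : z ∈ D.S := by rcases hz with rfl | rfl | rfl <;> simp [Frame.S]
      have := hmap z hzS
      simp only [Frame.S, Finset.mem_insert, Finset.mem_singleton] at this
      rcases this with h' | h' | h' | h' | h'
      · have hz' := h.injective (h'.trans k1.symm)
        rcases hz with rfl | rfl | rfl
        exacts [absurd hz'.symm n1e, absurd hz'.symm n1x, absurd hz'.symm n1y]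
      · have hz' := h.injective (h'.trans k2.symm)
        rcases hz with rfl | rfl | rfl
        exacts [absurd hz'.symm n2e, absurd hz'.symm n2x, absurd hz'.symm n2y]
      · have hz' := h.injective (h'.trans k3.symm)
        rcases hz with rfl | rfl | rfl
        exacts [absurd hz'.symm n3e, absurd hz'.symm n3x, absurd hz'.symm n3y]
      · have hz' := h.injective (h'.trans k4.symm)
        rcases hz with rfl | rfl | rfl
        exacts [absurd hz'.symm n4e, absurd hz'.symm n4x, absurd hz'.symm n4y]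
      · exact h'
    have ho : Odd (orderOf h) := H.odd h hhG _ _ _ _ D.dists k1 k2 k3 k4
    have hnot : ¬ (h D.e = D.e ∧ h D.x = D.x ∧ h D.y = D.y) := by
      rintro ⟨je, jx, jy⟩
      have hker : h ∈ D.kerS := D.mem_kerS.2 ⟨hhG, fun z hz => by
        simp only [Frame.S, Finset.mem_insert, Finset.mem_singleton] at hz
        rcases hz with rfl | rfl | rfl | rfl | rfl | rfl | rfl <;> assumption⟩
      set B := ((S : Subgroup K).map K.subtype).subgroupOf D.kerS with hB
      have hBp : IsPGroup ℓ B := (S.2.map _).comap_of_injective _ (Subgroup.subtype_injective _)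
      have hle' : (P₁ : Subgroup D.kerS) ≤ B := fun q hq => by
        exact ⟨⟨q, hQK q.2⟩, hPS' (show (q : Perm α) ∈ P from ⟨q, hq, rfl⟩), rfl⟩
      have hBeq := P₁.is_maximal' hBp hle'
      have hmem : (⟨h, hker⟩ : D.kerS) ∈ (P₁ : Subgroup D.kerS) := hBeq ▸ ⟨(s : K), s.2, rfl⟩
      exact hsP (show h ∈ P from ⟨⟨h, hker⟩, hmem, rfl⟩)
    have ex : h D.e ≠ D.e := fun je => by
      have hx' : ∀ z, (z = D.x ∨ z = D.y) → h z = D.x ∨ h z = D.y := fun z hz => by
        rcases hxye z (Or.inr hz) with h' | h'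
        · have hz' := h.injective (h'.trans je.symm)
          rcases hz with rfl | rfl
          exacts [absurd hz'.symm nex, absurd hz'.symm ney]
        · exact h'
      exact hnot ⟨je, fix_of_two ho (hx' _ (Or.inl rfl)) (hx' _ (Or.inr rfl)),
        fix_of_two ho (hx' _ (Or.inr rfl)).symm (hx' _ (Or.inl rfl)).symm⟩
    rcases hxye _ (Or.inl rfl) with je | je | je
    · exact ex je
    · -- `e ↦ x`
      have hxy : h D.x = D.y := by
        rcases hxye _ (Or.inr (Or.inl rfl)) with j | j | j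
        · exfalso
          exact ex (fix_of_two ho (Or.inr je) (Or.inl j))
        · exact absurd (h.injective (j.trans je.symm)).symm ‹_›
        · exact j
      have hye : h D.y = D.e := by
        rcases hxye _ (Or.inr (Or.inr rfl)) with j | j | j
        · exact j
        · exact absurd (h.injective (j.trans je.symm)).symm ‹_›
        · exact absurd (h.injective (j.trans hxy.symm)) (Ne.symm nxy)
      exact D.false_of_cycle H hn8 hhG k1 k2 k3 k4 hxy hye je
    · -- `e ↦ y`
      have hyx : h D.y = D.x := by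
        rcases hxye _ (Or.inr (Or.inr rfl)) with j | j | j
        · exfalso
          exact ex (fix_of_two ho (Or.inr je) (Or.inl j))
        · exact j
        · exact absurd (h.injective (j.trans je.symm)).symm ‹_›
      have hxe : h D.x = D.e := by
        rcases hxye _ (Or.inr (Or.inl rfl)) with j | j | j
        · exact j
        · exact absurd (h.injective (j.trans hyx.symm)) nxy
        · exact absurd (h.injective (j.trans je.symm)).symm ‹_›
      exact D.false_of_cycle H hn8 (inv_mem hhG) (Perm.inv_eq_iff_eq.2 k1.symm)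
        (Perm.inv_eq_iff_eq.2 k2.symm) (Perm.inv_eq_iff_eq.2 k3.symm)
        (Perm.inv_eq_iff_eq.2 k4.symm) (Perm.inv_eq_iff_eq.2 hyx.symm)
        (Perm.inv_eq_iff_eq.2 je.symm) (Perm.inv_eq_iff_eq.2 hxe.symm)

end CfsgLib.HallFour
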